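import Mathlib
import Cfsg.Agent.Lib.Helper36.AutO.OutMinusTwo
import Cfsg.Agent.Lib.Helper36.AutO.OutSplit
import Cfsg.Agent.Lib.Helper36.AutO.AutCount
import Cfsg.Agent.Lib.Helper36.AutO.RingAutCard
import Cfsg.Agent.Lib.Helper44.Levi
import Cfsg.Agent.S2695

set_option autoImplicit false
set_option linter.unusedSimpArgs false
set_option linter.unusedVariables false
set_option linter.unusedSectionVars false

/-!
# `Out PΩ⁺_{2m}(q)` for even `q` and `m ≥ 5`: `C₂ × C_f`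
-/

namespace Cfsg.Agent.Lib.Helper36.Tri

open Cfsg.Agent.Lib.Helper13 hiding isoGroup mem_isoGroup
open Cfsg.Agent.Lib.Helper36 Cfsg.Agent.Lib.Helper44 Cfsg.Agent.Lib.Helper36.AutO Module Matrix

/-- the plus form is invariant under the field automorphisms acting on coordinates -/
theorem hypQF_pair_one (m : ℕ) {F : Type*} [Field F] (σ : F ≃+* F) :
    Cfsg.IsSemisimilarityPair (⇑(hypQF m F)) (1 : GL (Fin m ⊕ Fin m) F) σ := by
  refine ⟨1, fun v => ?_⟩
  rw [Units.val_one, Matrix.one_mulVec, Units.val_one, one_mul, hypQF_apply, hypQF_apply]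
  unfold Cfsg.quadFormPlus
  rw [map_sum]
  apply Finset.sum_congr rfl
  intro i _
  rw [map_mul]

theorem out_plus_two_ge5 {F : Type*} [Field F] [Fintype F] {f m : ℕ} (hf : 1 ≤ f)
    (hF : Fintype.card F = 2 ^ f) (hm : 5 ≤ m) :
    Nonempty (Cfsg.Out (Cfsg.POmega F (Cfsg.quadFormPlus m F)) ≃*
      Multiplicative (ZMod 2 × ZMod f)) := by
  classical
  have : Fact (Nat.Prime 2) := ⟨Nat.prime_two⟩
  have hchar : CharP F 2 := charP_of_card_pow hf hF
  have h20 : (2 : F) = 0 := CharTwo.two_eq_zero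
  have hcard : Fintype.card (Fin m ⊕ Fin m) = 2 * m := by
    rw [Fintype.card_sum, Fintype.card_fin]; ring
  have h7 : 7 ≤ Fintype.card (Fin m ⊕ Fin m) := by rw [hcard]; omega
  have hQ : (QuadraticMap.polarBilin (hypQF m F)).Nondegenerate := hypQF_nondeg
  have htop := Cfsg.Agent.S2695.result (F := F) hm
  change Cfsg.gammaPOmega F (⇑(hypQF m F)) = ⊤ at htop
  change Nonempty (Cfsg.Out (Cfsg.POmega F (⇑(hypQF m F))) ≃* _)
  set Q := hypQF m F with hQdef
  have hσ : ∀ σ : F ≃+* F, Cfsg.IsSemisimilarityPair (⇑Q) (1 : GL (Fin m ⊕ Fin m) F) σ :=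
    fun σ => hypQF_pair_one m σ
  have hker := ker_fieldPart Q hQ h7 htop
  have hN : Cfsg.Inn (Cfsg.POmega F (⇑Q)) ≤ (fieldPart Q hQ h7 htop).ker := by
    rw [hker]
    exact le_trans (Inn_le_psoAut (⇑Q)) (psoAut_le_pgoAut (⇑Q))
  have hidx : (Cfsg.Inn (Cfsg.POmega F (⇑Q))).relIndex (fieldPart Q hQ h7 htop).ker = 2 := by
    rw [hker]
    exact relIndex_Inn_pgoAut_two Q hQ h7 h20
  obtain ⟨e⟩ := out_equiv_of_section (Cfsg.Inn (Cfsg.POmega F (⇑Q))) (fieldPart Q hQ h7 htop)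
    (fieldSection Q hσ) (fieldPart_fieldSection Q hQ h7 htop hσ) hN hidx
  obtain ⟨e₁⟩ := ringAut_equiv_zmod (F := F) hf hF
  exact ⟨e.trans (((MulEquiv.refl _).prodCongr e₁).trans
    (MulEquiv.prodMultiplicative (ZMod 2) (ZMod f)).symm)⟩

end Cfsg.Agent.Lib.Helper36.Tri
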