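import Mathlib
import Cfsg.Prelude.Def_Classical

set_option autoImplicit false

/-!
# Split octonions in coordinates adapted to `Cfsg.quadFormPlus 4 F`

The split octonion algebra (Zorn vector matrices `[[a, u], [v, b]]`, `a b : F`, `u v : F³`) written on
`Fin 4 ⊕ Fin 4 → F` with `x (inl 0) = a`, `x (inr 0) = b`, `x (inl j) = u_j`, `x (inr j) = - v_j`
(`j = 1, 2, 3`), so that the norm `a b - u · v` is literally `Cfsg.quadFormPlus 4 F x`.
-/

namespace Cfsg.Agent.Lib.Helper36.Tri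

variable {F : Type*} [Field F]

/-- the carrier -/
abbrev OV (F : Type*) := Fin 4 ⊕ Fin 4 → F

/-- octonion multiplication -/
def omul (x y : OV F) : OV F :=
  Sum.elim
    ![x (.inl 0) * y (.inl 0) - (x (.inl 1) * y (.inr 1) + x (.inl 2) * y (.inr 2) + x (.inl 3) * y (.inr 3)),
      x (.inl 0) * y (.inl 1) + y (.inr 0) * x (.inl 1) - (x (.inr 2) * y (.inr 3) - x (.inr 3) * y (.inr 2)),
      x (.inl 0) * y (.inl 2) + y (.inr 0) * x (.inl 2) - (x (.inr 3) * y (.inr 1) - x (.inr 1) * y (.inr 3)),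
      x (.inl 0) * y (.inl 3) + y (.inr 0) * x (.inl 3) - (x (.inr 1) * y (.inr 2) - x (.inr 2) * y (.inr 1))]
    ![x (.inr 0) * y (.inr 0) - (x (.inr 1) * y (.inl 1) + x (.inr 2) * y (.inl 2) + x (.inr 3) * y (.inl 3)),
      y (.inl 0) * x (.inr 1) + x (.inr 0) * y (.inr 1) - (x (.inl 2) * y (.inl 3) - x (.inl 3) * y (.inl 2)),
      y (.inl 0) * x (.inr 2) + x (.inr 0) * y (.inr 2) - (x (.inl 3) * y (.inl 1) - x (.inl 1) * y (.inl 3)),
      y (.inl 0) * x (.inr 3) + x (.inr 0) * y (.inr 3) - (x (.inl 1) * y (.inl 2) - x (.inl 2) * y (.inl 1))]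

/-- octonion conjugation -/
def oconj (x : OV F) : OV F :=
  Sum.elim ![x (.inr 0), - x (.inl 1), - x (.inl 2), - x (.inl 3)]
    ![x (.inl 0), - x (.inr 1), - x (.inr 2), - x (.inr 3)]

/-- the identity element -/
def oone : OV F := Sum.elim ![1, 0, 0, 0] ![1, 0, 0, 0]

/-- the norm, literally the frozen hyperbolic form -/
abbrev onorm (x : OV F) : F := Cfsg.quadFormPlus 4 F x

/-- the polar form of the norm -/
def obil (x y : OV F) : F := onorm (x + y) - onorm x - onorm y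

theorem onorm_eq (x : OV F) :
    onorm x = x (.inl 0) * x (.inr 0) + x (.inl 1) * x (.inr 1) + x (.inl 2) * x (.inr 2)
      + x (.inl 3) * x (.inr 3) := by
  unfold onorm Cfsg.quadFormPlus
  rw [Fin.sum_univ_four]

theorem obil_eq (x y : OV F) :
    obil x y = x (.inl 0) * y (.inr 0) + y (.inl 0) * x (.inr 0) + x (.inl 1) * y (.inr 1)
      + y (.inl 1) * x (.inr 1) + x (.inl 2) * y (.inr 2) + y (.inl 2) * x (.inr 2)
      + x (.inl 3) * y (.inr 3) + y (.inl 3) * x (.inr 3) := by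
  unfold obil
  rw [onorm_eq, onorm_eq, onorm_eq]
  simp only [Pi.add_apply]
  ring

end Cfsg.Agent.Lib.Helper36.Tri
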