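import Mathlib
import Cfsg.Agent.Lib.Helper36.Tri.Oct

set_option autoImplicit false

/-!
# Split octonions: bilinearity, the multiplication operators, related triples (definitions)
-/

namespace Cfsg.Agent.Lib.Helper36.Tri

variable {F : Type*} [Field F]

theorem omul_add_left (x x' y : OV F) : omul (x + x') y = omul x y + omul x' y := by
  funext i
  rcases i with i | i <;> fin_cases i <;> simp [omul] <;> ring

theorem omul_add_right (x y y' : OV F) : omul x (y + y') = omul x y + omul x y' := by
  funext i
  rcases i with i | i <;> fin_cases i <;> simp [omul] <;> ring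

theorem omul_smul_left (c : F) (x y : OV F) : omul (c • x) y = c • omul x y := by
  funext i
  rcases i with i | i <;> fin_cases i <;> simp [omul] <;> ring

theorem omul_smul_right (c : F) (x y : OV F) : omul x (c • y) = c • omul x y := by
  funext i
  rcases i with i | i <;> fin_cases i <;> simp [omul] <;> ring

theorem oconj_add (x y : OV F) : oconj (x + y) = oconj x + oconj y := by
  funext i
  rcases i with i | i <;> fin_cases i <;> simp [oconj] <;> ring

theorem oconj_smul (c : F) (x : OV F) : oconj (c • x) = c • oconj x := by
  funext i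
  rcases i with i | i <;> fin_cases i <;> simp [oconj]

theorem oconj_oconj (x : OV F) : oconj (oconj x) = x := by
  funext i
  rcases i with i | i <;> fin_cases i <;> simp [oconj]

theorem onorm_oconj (x : OV F) : onorm (oconj x) = onorm x := by
  rw [onorm_eq, onorm_eq]
  simp [oconj]
  ring

/-- left multiplication by `u` -/
def Lm (u : OV F) : OV F →ₗ[F] OV F where
  toFun := omul u
  map_add' := omul_add_right u
  map_smul' := fun c y => omul_smul_right c u y

/-- right multiplication by `u` -/
def Rm (u : OV F) : OV F →ₗ[F] OV F where
  toFun := fun x => omul x u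
  map_add' := fun x x' => omul_add_left x x' u
  map_smul' := fun c x => omul_smul_left c x u

@[simp] theorem Lm_apply (u x : OV F) : Lm u x = omul u x := rfl

@[simp] theorem Rm_apply (u x : OV F) : Rm u x = omul x u := rfl

/-- conjugation as a linear equivalence -/
def conjE : OV F ≃ₗ[F] OV F where
  toFun := oconj
  map_add' := oconj_add
  map_smul' := oconj_smul
  invFun := oconj
  left_inv := oconj_oconj
  right_inv := oconj_oconj

@[simp] theorem conjE_apply (x : OV F) : (conjE : OV F ≃ₗ[F] OV F) x = oconj x := rfl

/-- `Â = κ A κ` -/
def hatE (A : OV F ≃ₗ[F] OV F) : OV F ≃ₗ[F] OV F := conjE.trans (A.trans conjE)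

@[simp] theorem hatE_apply (A : OV F ≃ₗ[F] OV F) (x : OV F) : hatE A x = oconj (A (oconj x)) := rfl

/-- `(A, B, C)` is a related triple: `A (x y) = B x · C y` -/
def IsRel (A B C : OV F ≃ₗ[F] OV F) : Prop := ∀ x y, A (omul x y) = omul (B x) (C y)

/-- `A` preserves the norm -/
def IsIso (A : OV F ≃ₗ[F] OV F) : Prop := ∀ x, onorm (A x) = onorm x

end Cfsg.Agent.Lib.Helper36.Tri
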