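import Cfsg.Agent.Lib.Helper36.Tri.OctLin
import Cfsg.Agent.Lib.Helper53.TriOctId1
import Cfsg.Agent.Lib.Helper53.TriOctId2
import Cfsg.Agent.Lib.Helper37.TriKer
import Cfsg.Agent.Lib.Helper37.TriCyc
import Cfsg.Agent.Lib.Helper37.TriRefl
import Cfsg.Agent.Lib.Helper45.TriOctTS

set_option autoImplicit false

/-! # Facts on split octonions (collected from the TRI8 modules) -/

namespace Cfsg.Agent.Lib.Helper36.Tri

variable {F : Type*} [Field F]

-- [OCT-ID]
theorem oone_omul (x : OV F) : omul oone x = x :=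
  Cfsg.Agent.Lib.Helper53.TriOct.oone_omul x
theorem omul_oone (x : OV F) : omul x oone = x :=
  Cfsg.Agent.Lib.Helper53.TriOct.omul_oone x
theorem onorm_oone : onorm (oone : OV F) = 1 :=
  Cfsg.Agent.Lib.Helper53.TriOct.onorm_oone
theorem oconj_oone : oconj (oone : OV F) = oone :=
  Cfsg.Agent.Lib.Helper53.TriOct.oconj_oone
theorem onorm_omul (x y : OV F) : onorm (omul x y) = onorm x * onorm y :=
  Cfsg.Agent.Lib.Helper53.TriOct.onorm_omul x y
theorem omul_oconj (x : OV F) : omul x (oconj x) = onorm x • oone :=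
  Cfsg.Agent.Lib.Helper53.TriOct.omul_oconj x
theorem oconj_omul (x : OV F) : omul (oconj x) x = onorm x • oone :=
  Cfsg.Agent.Lib.Helper53.TriOct.oconj_omul x
theorem oconj_omul_rev (x y : OV F) : oconj (omul x y) = omul (oconj y) (oconj x) :=
  Cfsg.Agent.Lib.Helper53.TriOct.oconj_omul_rev x y
theorem moufang_mid (a x y : OV F) : omul (omul a x) (omul y a) = omul (omul a (omul x y)) a :=
  Cfsg.Agent.Lib.Helper53.TriOct.moufang_mid a x y
theorem moufang_left (a x y : OV F) : omul a (omul x (omul a y)) = omul (omul (omul a x) a) y :=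
  Cfsg.Agent.Lib.Helper53.TriOct.moufang_left a x y
theorem moufang_right (a x y : OV F) : omul (omul (omul x a) y) a = omul x (omul a (omul y a)) :=
  Cfsg.Agent.Lib.Helper53.TriOct.moufang_right a x y
theorem flexible (a x : OV F) : omul (omul a x) a = omul a (omul x a) :=
  Cfsg.Agent.Lib.Helper53.TriOct.flexible a x
theorem oconj_omul_cancel (x y : OV F) : omul (oconj x) (omul x y) = onorm x • y :=
  Cfsg.Agent.Lib.Helper53.TriOct.oconj_omul_cancel x y
theorem omul_oconj_cancel (x y : OV F) : omul x (omul (oconj x) y) = onorm x • y :=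
  Cfsg.Agent.Lib.Helper53.TriOct.omul_oconj_cancel x y
theorem omul_cancel_oconj (x y : OV F) : omul (omul y x) (oconj x) = onorm x • y :=
  Cfsg.Agent.Lib.Helper53.TriOct.omul_cancel_oconj x y
theorem omul_cancel_oconj' (x y : OV F) : omul (omul y (oconj x)) x = onorm x • y :=
  Cfsg.Agent.Lib.Helper53.TriOct.omul_cancel_oconj' x y
theorem lin_alt_left (u v x : OV F) :
    omul (oconj u) (omul v x) + omul (oconj v) (omul u x) = obil u v • x :=
  Cfsg.Agent.Lib.Helper53.TriOct.lin_alt_left u v x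
theorem lin_alt_right (u v x : OV F) :
    omul (omul x v) (oconj u) + omul (omul x u) (oconj v) = obil u v • x :=
  Cfsg.Agent.Lib.Helper53.TriOct.lin_alt_right u v x
theorem obil_comm (x y : OV F) : obil x y = obil y x :=
  Cfsg.Agent.Lib.Helper53.TriOct.obil_comm x y
theorem obil_add_left (x x' y : OV F) : obil (x + x') y = obil x y + obil x' y :=
  Cfsg.Agent.Lib.Helper53.TriOct.obil_add_left x x' y
theorem obil_smul_left (c : F) (x y : OV F) : obil (c • x) y = c * obil x y :=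
  Cfsg.Agent.Lib.Helper53.TriOct.obil_smul_left c x y
theorem obil_self (x : OV F) : obil x x = 2 * onorm x :=
  Cfsg.Agent.Lib.Helper53.TriOct.obil_self x
theorem obil_oconj (x y : OV F) : obil (oconj x) (oconj y) = obil x y :=
  Cfsg.Agent.Lib.Helper53.TriOct.obil_oconj x y
theorem obil_eq_polar (x y : OV F) :
    obil x y = QuadraticMap.polar (Cfsg.quadFormPlus 4 F) x y :=
  Cfsg.Agent.Lib.Helper53.TriOct.obil_eq_polar x y
theorem obil_omul_left (x y z : OV F) : obil (omul x y) z = obil y (omul (oconj x) z) :=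
  Cfsg.Agent.Lib.Helper53.TriOct.obil_omul_left x y z
theorem obil_omul_right (x y z : OV F) : obil (omul x y) z = obil x (omul z (oconj y)) :=
  Cfsg.Agent.Lib.Helper53.TriOct.obil_omul_right x y z
theorem obil_omul_omul (x y z : OV F) : obil (omul x z) (omul y z) = obil x y * onorm z :=
  Cfsg.Agent.Lib.Helper53.TriOct.obil_omul_omul x y z
theorem obil_omul_omul' (x y z : OV F) : obil (omul z x) (omul z y) = onorm z * obil x y :=
  Cfsg.Agent.Lib.Helper53.TriOct.obil_omul_omul' x y z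
theorem omul_oconj_omul (u x : OV F) :
    omul (omul u (oconj x)) u = obil u x • u - onorm u • x :=
  Cfsg.Agent.Lib.Helper53.TriOct.omul_oconj_omul u x
theorem obil_nondeg (x : OV F) (h : ∀ y, obil x y = 0) : x = 0 :=
  Cfsg.Agent.Lib.Helper53.TriOct.obil_nondeg x h
theorem nucleus (b : OV F) (h : ∀ x y : OV F, omul (omul x b) y = omul x (omul b y)) :
    ∃ l : F, b = l • oone :=
  Cfsg.Agent.Lib.Helper53.TriOct.nucleus b h

-- [OCT-KER]
theorem rel_scalar (a : F) (ha : a ≠ 0) (B C : OV F ≃ₗ[F] OV F)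
    (h : ∀ x y : OV F, a • omul x y = omul (B x) (C y)) :
    ∃ l m : F, l * m = a ∧ (∀ x, B x = l • x) ∧ (∀ y, C y = m • y) :=
  Cfsg.Agent.Lib.Helper37.Tri.rel_scalar a ha B C h

-- [OCT-CYC]
theorem isRel_cyc {A B C : OV F ≃ₗ[F] OV F} (hA : IsIso A) (hB : IsIso B) (hC : IsIso C)
    (h : IsRel A B C) : IsRel (hatE B) C (hatE A) :=
  Cfsg.Agent.Lib.Helper37.Tri.isRel_cyc hA hB hC h
theorem isRel_hat {A B C : OV F ≃ₗ[F] OV F} (h : IsRel A B C) :
    IsRel (hatE A) (hatE C) (hatE B) :=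
  Cfsg.Agent.Lib.Helper37.Tri.isRel_hat h
theorem isIso_hatE {A : OV F ≃ₗ[F] OV F} (hA : IsIso A) : IsIso (hatE A) :=
  Cfsg.Agent.Lib.Helper37.Tri.isIso_hatE hA

-- [OCT-REFL]
theorem refl_rel (u v : OV F) (c : F) (hc : c ≠ 0) (hu : onorm u = c) (hv : onorm v = c) :
    ∃ A B C : OV F ≃ₗ[F] OV F, IsIso A ∧ IsIso B ∧ IsIso C ∧ IsRel A B C ∧
      (∀ x, A x = (x - (c⁻¹ * obil v x) • v) - (c⁻¹ * obil u (x - (c⁻¹ * obil v x) • v)) • u) ∧
      (∀ x, B x = c⁻¹ • omul u (omul (oconj v) x)) ∧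
      (∀ x, C x = c⁻¹ • omul (omul x (oconj v)) u) :=
  Cfsg.Agent.Lib.Helper37.Tri.refl_rel u v c hc hu hv

-- [OCT-TS]
theorem onorm_eq_zero_of_omul_left {s x : OV F} (hs : s ≠ 0) (h : omul s x = 0) : onorm x = 0 :=
  Cfsg.Agent.Lib.Helper45.Tri.onorm_eq_zero_of_omul_left hs h
theorem onorm_eq_zero_of_omul_right {s x : OV F} (hs : s ≠ 0) (h : omul x s = 0) : onorm x = 0 :=
  Cfsg.Agent.Lib.Helper45.Tri.onorm_eq_zero_of_omul_right hs h

end Cfsg.Agent.Lib.Helper36.Tri
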