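import Mathlib
import Cfsg.Agent.Lib.Helper36.Tri.OctFacts

set_option autoImplicit false

/-!
# The group of related triples of isometries of the split octonions, and the triality map `θ`
-/

namespace Cfsg.Agent.Lib.Helper36.Tri

variable {F : Type*} [Field F]

/-- the group of linear automorphisms of the octonions -/
abbrev GLO (F : Type*) [Field F] := OV F ≃ₗ[F] OV F

theorem IsIso.one : IsIso (1 : GLO F) := fun _ => rfl

theorem IsIso.mul {A B : GLO F} (hA : IsIso A) (hB : IsIso B) : IsIso (A * B) := fun x => by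
  rw [LinearEquiv.mul_apply, hA, hB]

theorem IsIso.inv {A : GLO F} (hA : IsIso A) : IsIso A⁻¹ := fun x => by
  have h := hA (A⁻¹ x)
  have h2 : A (A⁻¹ x) = x := by
    rw [← LinearEquiv.mul_apply, mul_inv_cancel]; rfl
  rw [h2] at h
  exact h.symm

theorem IsRel.one : IsRel (1 : GLO F) 1 1 := fun _ _ => rfl

theorem IsRel.mul {A B C A' B' C' : GLO F} (h : IsRel A B C) (h' : IsRel A' B' C') :
    IsRel (A * A') (B * B') (C * C') := fun x y => by
  rw [LinearEquiv.mul_apply, LinearEquiv.mul_apply, LinearEquiv.mul_apply, h' x y, h]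

theorem IsRel.inv {A B C : GLO F} (h : IsRel A B C) : IsRel A⁻¹ B⁻¹ C⁻¹ := fun x y => by
  have hB : B (B⁻¹ x) = x := by rw [← LinearEquiv.mul_apply, mul_inv_cancel]; rfl
  have hC : C (C⁻¹ y) = y := by rw [← LinearEquiv.mul_apply, mul_inv_cancel]; rfl
  have h1 := h (B⁻¹ x) (C⁻¹ y)
  rw [hB, hC] at h1
  rw [← h1, ← LinearEquiv.mul_apply, inv_mul_cancel]
  rfl

/-- the group of related triples of isometries -/
def RT (F : Type*) [Field F] : Subgroup (GLO F × GLO F × GLO F) where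
  carrier := {t | IsIso t.1 ∧ IsIso t.2.1 ∧ IsIso t.2.2 ∧ IsRel t.1 t.2.1 t.2.2}
  mul_mem' := by
    rintro t t' ⟨h1, h2, h3, h4⟩ ⟨h1', h2', h3', h4'⟩
    exact ⟨h1.mul h1', h2.mul h2', h3.mul h3', h4.mul h4'⟩
  one_mem' := ⟨IsIso.one, IsIso.one, IsIso.one, IsRel.one⟩
  inv_mem' := by
    rintro t ⟨h1, h2, h3, h4⟩
    exact ⟨h1.inv, h2.inv, h3.inv, h4.inv⟩

theorem mem_RT (t : GLO F × GLO F × GLO F) :
    t ∈ RT F ↔ IsIso t.1 ∧ IsIso t.2.1 ∧ IsIso t.2.2 ∧ IsRel t.1 t.2.1 t.2.2 := Iff.rfl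

/-- `A ↦ κ A κ` as an automorphism of the group `GLO F` -/
def hatM : GLO F ≃* GLO F := MulAut.conj (conjE : GLO F)

theorem hatM_apply (A : GLO F) (x : OV F) : hatM A x = oconj (A (oconj x)) := rfl

theorem hatM_eq_hatE (A : GLO F) : hatM A = hatE A := by
  apply LinearEquiv.ext
  intro x
  rfl

theorem hatM_hatM (A : GLO F) : hatM (hatM A) = A := by
  apply LinearEquiv.ext
  intro x
  rw [hatM_apply, hatM_apply, oconj_oconj, oconj_oconj]

/-- the triality map on triples -/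
def thetaM : (GLO F × GLO F × GLO F) ≃* (GLO F × GLO F × GLO F) where
  toFun t := (hatM t.2.1, t.2.2, hatM t.1)
  invFun t := (hatM t.2.2, hatM t.1, t.2.1)
  left_inv t := by
    simp only [hatM_hatM]
  right_inv t := by
    simp only [hatM_hatM]
  map_mul' t t' := by
    simp only [Prod.fst_mul, Prod.snd_mul, map_mul, Prod.mk_mul_mk]

theorem thetaM_apply (t : GLO F × GLO F × GLO F) : thetaM t = (hatM t.2.1, t.2.2, hatM t.1) := rfl

theorem thetaM_cube (t : GLO F × GLO F × GLO F) : thetaM (thetaM (thetaM t)) = t := by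
  simp only [thetaM_apply, hatM_hatM]

theorem thetaM_mem {t : GLO F × GLO F × GLO F} (ht : t ∈ RT F) : thetaM t ∈ RT F := by
  obtain ⟨h1, h2, h3, h4⟩ := ht
  rw [thetaM_apply, mem_RT]
  simp only [hatM_eq_hatE]
  exact ⟨isIso_hatE h2, h3, isIso_hatE h1, isRel_cyc h1 h2 h3 h4⟩

theorem map_thetaM_RT : (RT F).map (thetaM : _ ≃* _).toMonoidHom = RT F := by
  apply le_antisymm
  · rintro _ ⟨t, ht, rfl⟩
    exact thetaM_mem ht
  · intro t ht
    refine ⟨thetaM (thetaM t), thetaM_mem (thetaM_mem ht), ?_⟩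
    exact thetaM_cube t

/-- the commutator subgroup of the group of related triples -/
def RT' (F : Type*) [Field F] : Subgroup (GLO F × GLO F × GLO F) := ⁅RT F, RT F⁆

theorem RT'_le : RT' F ≤ RT F := by
  unfold RT'
  rw [Subgroup.commutator_le]
  intro a ha b hb
  exact (RT F).mul_mem ((RT F).mul_mem ((RT F).mul_mem ha hb) ((RT F).inv_mem ha)) ((RT F).inv_mem hb)

theorem map_thetaM_RT' : (RT' F).map (thetaM : _ ≃* _).toMonoidHom = RT' F := by
  unfold RT'
  rw [Subgroup.map_commutator, map_thetaM_RT]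

theorem thetaM_mem' {t : GLO F × GLO F × GLO F} (ht : t ∈ RT' F) : thetaM t ∈ RT' F := by
  rw [← map_thetaM_RT']
  exact ⟨t, ht, rfl⟩

end Cfsg.Agent.Lib.Helper36.Tri
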