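import Mathlib
import Cfsg.Agent.Lib.Helper36.Tri.RelTriple
import Cfsg.Agent.Lib.Helper36.AutO.Center
import Cfsg.Agent.Lib.Helper44.KESimple2
import Cfsg.Agent.Lib.Helper44.EichlerOdd
import Cfsg.Agent.Lib.Helper44.Levi
import Cfsg.Agent.Lib.Helper36.AutO.Transfer

set_option autoImplicit false
set_option linter.unusedSimpArgs false
set_option linter.unusedVariables false
set_option linter.unusedSectionVars false

/-!
# Every element of `Ω⁺₈` (the group `KE`) is the first component of a related triple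
-/

namespace Cfsg.Agent.Lib.Helper36.Tri

open Cfsg.Agent.Lib.Helper13 hiding isoGroup mem_isoGroup
open Cfsg.Agent.Lib.Helper36 Cfsg.Agent.Lib.Helper44 Cfsg.Agent.Lib.Helper36.AutO Module

/-- transport of an automorphism along a surjective homomorphism -/
theorem exists_aut_of_surj {P G : Type*} [Group P] [Group G] (ψ : P →* G)
    (hψ : Function.Surjective ψ) (θ : P ≃* P) (hker : ∀ t, ψ t = 1 ↔ ψ (θ t) = 1) :
    ∃ τ : G ≃* G, ∀ t, τ (ψ t) = ψ (θ t) := by
  classical
  have key : ∀ t t', ψ t = ψ t' → ψ (θ t) = ψ (θ t') := by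
    intro t t' h
    have h1 : ψ (t⁻¹ * t') = 1 := by rw [map_mul, map_inv, h, inv_mul_cancel]
    have h2 := (hker _).1 h1
    rw [map_mul, map_mul, map_inv, map_inv, inv_mul_eq_one] at h2
    exact h2
  have key' : ∀ t t', ψ t = ψ t' → ψ (θ.symm t) = ψ (θ.symm t') := by
    intro t t' h
    have h1 : ψ (t⁻¹ * t') = 1 := by rw [map_mul, map_inv, h, inv_mul_cancel]
    have h2 := (hker (θ.symm (t⁻¹ * t'))).2 (by rw [θ.apply_symm_apply]; exact h1)
    rw [map_mul, map_mul, map_inv, map_inv, inv_mul_eq_one] at h2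
    exact h2
  let f : G → G := fun g => ψ (θ (hψ g).choose)
  let f' : G → G := fun g => ψ (θ.symm (hψ g).choose)
  have hf : ∀ t, f (ψ t) = ψ (θ t) := fun t => key _ _ (hψ (ψ t)).choose_spec
  have hf' : ∀ t, f' (ψ t) = ψ (θ.symm t) := fun t => key' _ _ (hψ (ψ t)).choose_spec
  refine ⟨{ toFun := f, invFun := f', left_inv := ?_, right_inv := ?_, map_mul' := ?_ }, hf⟩
  · intro g
    obtain ⟨t, rfl⟩ := hψ g
    rw [hf, hf', θ.symm_apply_apply]
  · intro g
    obtain ⟨t, rfl⟩ := hψ g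
    rw [hf', hf, θ.apply_symm_apply]
  · intro g g'
    obtain ⟨t, rfl⟩ := hψ g
    obtain ⟨t', rfl⟩ := hψ g'
    rw [← map_mul, hf, hf, hf, map_mul, map_mul]

variable {F : Type*} [Field F]

local notation "pol" => QuadraticMap.polar

/-- the norm form as a quadratic form -/
abbrev QO (F : Type*) [Field F] : QuadraticForm F (OV F) := hypQF 4 F

theorem QO_apply (x : OV F) : QO F x = onorm x := rfl

theorem pol_QO (x y : OV F) : pol (⇑(QO F)) x y = obil x y := (obil_eq_polar x y).symm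

theorem isIso_iff (A : GLO F) : IsIso A ↔ A ∈ isoGroup (QO F) := Iff.rfl

/-- the first components of related triples -/
def p1RT (F : Type*) [Field F] : Subgroup (GLO F) := (RT F).map (MonoidHom.fst _ _)

theorem p1RT_le : p1RT F ≤ isoGroup (QO F) := by
  rintro _ ⟨t, ht, rfl⟩
  exact ht.1

/-- products of two reflections in vectors of the same norm lift to related triples -/
theorem refl_mul_refl_mem (u v : OV F) (hu : QO F u ≠ 0) (hv : QO F v ≠ 0) (huv : QO F u = QO F v) :
    ((reflG (QO F) u hu * reflG (QO F) v hv : ↥(isoGroup (QO F))) : GLO F) ∈ p1RT F := by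
  obtain ⟨A, B, C, hA, hB, hC, hrel, hAx, -, -⟩ :=
    refl_rel u v (onorm u) hu rfl huv.symm
  refine ⟨(A, B, C), ⟨hA, hB, hC, hrel⟩, ?_⟩
  apply LinearEquiv.ext
  intro x
  show A x = _
  rw [hAx]
  show _ = reflLin (QO F) u (reflLin (QO F) v x)
  rw [reflLin_apply, reflLin_apply, pol_QO, pol_QO, QO_apply, QO_apply,
    show onorm v = onorm u from huv.symm]

/-- the group generated by the products of two reflections in vectors of the same norm -/
def N0 (F : Type*) [Field F] : Subgroup ↥(isoGroup (QO F)) :=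
  Subgroup.closure {g | ∃ (u v : OV F) (hu : QO F u ≠ 0) (hv : QO F v ≠ 0), QO F u = QO F v ∧
    g = reflG (QO F) u hu * reflG (QO F) v hv}

theorem N0_normal : (N0 F).Normal := by
  constructor
  intro k hk h
  unfold N0 at hk ⊢
  induction hk using Subgroup.closure_induction with
  | mem k hk =>
    obtain ⟨u, v, hu, hv, huv, rfl⟩ := hk
    apply Subgroup.subset_closure
    refine ⟨(h : GLO F) u, (h : GLO F) v, by rw [isoG_Q]; exact hu, by rw [isoG_Q]; exact hv,
      by rw [isoG_Q, isoG_Q]; exact huv, ?_⟩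
    rw [← conj_reflG (QO F) h u hu, ← conj_reflG (QO F) h v hv]
    group
  | one => simp
  | mul a b _ _ ha hb =>
    have : h * (a * b) * h⁻¹ = (h * a * h⁻¹) * (h * b * h⁻¹) := by group
    rw [this]
    exact Subgroup.mul_mem _ ha hb
  | inv a _ ha =>
    have : h * a⁻¹ * h⁻¹ = (h * a * h⁻¹)⁻¹ := by group
    rw [this]
    exact Subgroup.inv_mem _ ha

theorem N0_le : (N0 F).map (isoGroup (QO F)).subtype ≤ p1RT F := by
  unfold N0
  rw [MonoidHom.map_closure, Subgroup.closure_le]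
  rintro _ ⟨g, ⟨u, v, hu, hv, huv, rfl⟩, rfl⟩
  exact refl_mul_refl_mem u v hu hv huv

/-! ### three orthogonal vectors of norm one -/

/-- `e₁ + f₁` -/
def u0 : OV F := Pi.single (Sum.inl 1) 1 + Pi.single (Sum.inr 1) 1
/-- `e₂ + f₂` -/
def v0 : OV F := Pi.single (Sum.inl 2) 1 + Pi.single (Sum.inr 2) 1
/-- `e₃ + f₃` -/
def w0 : OV F := Pi.single (Sum.inl 3) 1 + Pi.single (Sum.inr 3) 1

theorem onorm_u0 : onorm (u0 : OV F) = 1 := by rw [onorm_eq]; simp [u0]
theorem onorm_v0 : onorm (v0 : OV F) = 1 := by rw [onorm_eq]; simp [v0]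
theorem onorm_w0 : onorm (w0 : OV F) = 1 := by rw [onorm_eq]; simp [w0]
theorem obil_u0_v0 : obil (u0 : OV F) v0 = 0 := by rw [obil_eq]; simp [u0, v0]
theorem obil_u0_w0 : obil (u0 : OV F) w0 = 0 := by rw [obil_eq]; simp [u0, w0]
theorem obil_v0_w0 : obil (v0 : OV F) w0 = 0 := by rw [obil_eq]; simp [v0, w0]

theorem QO_u0 : QO F (u0 : OV F) ≠ 0 := by rw [QO_apply, onorm_u0]; exact one_ne_zero
theorem QO_v0 : QO F (v0 : OV F) ≠ 0 := by rw [QO_apply, onorm_v0]; exact one_ne_zero

/-- the product of the reflections in `u0` and `v0` -/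
noncomputable def A0 (F : Type*) [Field F] : ↥(isoGroup (QO F)) :=
  reflG (QO F) u0 QO_u0 * reflG (QO F) v0 QO_v0

theorem A0_apply (x : OV F) : ((A0 F : ↥(isoGroup (QO F))) : GLO F) x =
    (x - obil v0 x • v0) - obil u0 (x - obil v0 x • v0) • u0 := by
  unfold A0
  rw [isoG_mul_apply, reflG_apply, reflG_apply, reflLin_apply, reflLin_apply, pol_QO, pol_QO,
    QO_apply, QO_apply, onorm_u0, onorm_v0, inv_one, one_mul, one_mul]

theorem A0_w0 : ((A0 F : ↥(isoGroup (QO F))) : GLO F) w0 = w0 := by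
  rw [A0_apply, obil_v0_w0, zero_smul, sub_zero, obil_u0_w0, zero_smul, sub_zero]

theorem A0_mem_N0 : A0 F ∈ N0 F :=
  Subgroup.subset_closure ⟨u0, v0, QO_u0, QO_v0, by rw [QO_apply, QO_apply, onorm_u0, onorm_v0], rfl⟩

theorem finrank_OV : finrank F (OV F) = 8 := by
  rw [Module.finrank_fintype_fun_eq_card, Fintype.card_sum, Fintype.card_fin]

theorem QO_nondeg : (QuadraticMap.polarBilin (QO F)).Nondegenerate := hypQF_nondeg

theorem A0_mem_KE [Finite F] : A0 F ∈ KE (QO F) := by
  have hn := KE_normal (QO F)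
  have hind : ∀ l : F, (u0 : OV F) ≠ l • (v0 - u0) := by
    intro l h
    have h1 := congrFun h (Sum.inl 1)
    have h2 := congrFun h (Sum.inl 2)
    simp [u0, v0] at h1 h2
    rw [← h2] at h1
    simp at h1
  have hne : (v0 : OV F) - u0 ≠ 0 := by
    intro h
    have h1 := congrFun h (Sum.inl 2)
    simp [u0, v0] at h1
  obtain ⟨k, hk, hku⟩ := KE_trans_indep (QO F) QO_nondeg (by rw [finrank_OV]; norm_num) u0 v0
    (by rw [QO_apply, QO_apply, onorm_u0, onorm_v0]) hind hne
  have hconj : k * reflG (QO F) u0 QO_u0 * k⁻¹ = reflG (QO F) v0 QO_v0 := by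
    rw [conj_reflG]
    apply isoGroup_ext
    intro z
    rw [reflG_apply, reflG_apply, hku]
  have hinv : (reflG (QO F) (u0 : OV F) QO_u0)⁻¹ = reflG (QO F) u0 QO_u0 := by
    rw [inv_eq_iff_mul_eq_one]
    apply isoGroup_ext
    intro z
    rw [isoG_mul_apply, reflG_apply, reflG_apply, reflLin_reflLin (QO F) u0 QO_u0, isoG_one_apply]
  have : A0 F = (reflG (QO F) u0 QO_u0 * k * (reflG (QO F) u0 QO_u0)⁻¹) * k⁻¹ := by
    unfold A0
    rw [← hconj, hinv]
    group
  rw [this]
  exact (KE (QO F)).mul_mem (hn.conj_mem k hk _) ((KE (QO F)).inv_mem hk)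

theorem A0_not_scalar (l : F) : ¬ ∀ z, ((A0 F : ↥(isoGroup (QO F))) : GLO F) z = l • z := by
  intro h
  have h1 := congrFun (h (Pi.single (Sum.inl 1) 1)) (Sum.inr 1)
  rw [A0_apply, obil_eq, obil_eq] at h1
  simp [u0, v0] at h1

/-- **every element of `KE` is the first component of a related triple** -/
theorem KE_le_p1RT [Finite F] : (KE (QO F)).map (isoGroup (QO F)).subtype ≤ p1RT F := by
  have h7 : 7 ≤ finrank F (OV F) := by rw [finrank_OV]; norm_num
  have hn0 := N0_normal (F := F)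
  have hN : ((N0 F).subgroupOf (KE (QO F))).Normal := inferInstance
  rcases KE_normal_dichotomy (QO F) QO_nondeg h7 _ hN with h | h
  · exfalso
    have hmem : (⟨A0 F, A0_mem_KE⟩ : ↥(KE (QO F))) ∈ (N0 F).subgroupOf (KE (QO F)) := by
      rw [Subgroup.mem_subgroupOf]
      exact A0_mem_N0
    obtain ⟨l, -, hl⟩ := (keModel (QO F)).center_scalar QO_nondeg (by omega) _ (h hmem)
    exact A0_not_scalar l hl
  · refine le_trans ?_ N0_le
    apply Subgroup.map_mono
    intro x hx
    have : (⟨x, hx⟩ : ↥(KE (QO F))) ∈ (N0 F).subgroupOf (KE (QO F)) := by rw [h]; trivial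
    rw [Subgroup.mem_subgroupOf] at this
    exact this

end Cfsg.Agent.Lib.Helper36.Tri
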