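import Mathlib
import Cfsg.Agent.Lib.Helper36.Tri.TauLift

set_option autoImplicit false
set_option linter.unusedSimpArgs false
set_option linter.unusedVariables false
set_option linter.unusedSectionVars false

/-!
# The triality automorphism of `Γ ⧸ Z(Γ)` for a model `Γ` of `Ω⁺₈(F)`
-/

namespace Cfsg.Agent.Lib.Helper36.Tri

open Cfsg.Agent.Lib.Helper13 hiding isoGroup mem_isoGroup
open Cfsg.Agent.Lib.Helper36 Cfsg.Agent.Lib.Helper44 Cfsg.Agent.Lib.Helper36.AutO Module

section general
variable {F V : Type*} [Field F] [AddCommGroup V] [Module F V]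
variable {Q : QuadraticForm F V} {Γ : Type*} [Group Γ] (M : OModel Q Γ)

local notation "pol" => QuadraticMap.polar

/-- the image of a model is the group generated by the Eichler transformations -/
theorem range_rho_eq : M.ρ.range = (KE Q).map (isoGroup Q).subtype := by
  apply le_antisymm
  · rw [MonoidHom.range_eq_map, ← M.gen, MonoidHom.map_closure, Subgroup.closure_le]
    rintro _ ⟨x, ⟨p, w, hp, hpw, hx⟩, rfl⟩
    refine ⟨eichG Q p w hp hpw, eichG_mem_KE Q p w hp hpw, ?_⟩
    apply LinearEquiv.ext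
    intro z
    rw [hx z]
    rfl
  · rintro _ ⟨k, hk, rfl⟩
    unfold KE at hk
    induction hk using Subgroup.closure_induction with
    | mem y hy =>
      obtain ⟨p, w, hp, hpw, hy⟩ := hy
      refine ⟨M.E p w, ?_⟩
      apply LinearEquiv.ext
      intro z
      rw [M.E_apply p w hp hpw]
      exact (hy z).symm
    | one => exact Subgroup.one_mem _
    | mul y y' _ _ hy hy' =>
      rw [map_mul]
      exact Subgroup.mul_mem _ hy hy'
    | inv y _ hy =>
      rw [map_inv]
      exact Subgroup.inv_mem _ hy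

end general

section tri
variable {F : Type*} [Field F] [Finite F]
variable {Γ : Type*} [Group Γ] (M : OModel (QO F) Γ)

/-- the first projection on triples -/
abbrev pr1 (F : Type*) [Field F] : GLO F × GLO F × GLO F →* GLO F := MonoidHom.fst _ _

theorem KEl_perfect :
    ⁅(KE (QO F)).map (isoGroup (QO F)).subtype, (KE (QO F)).map (isoGroup (QO F)).subtype⁆ =
      (KE (QO F)).map (isoGroup (QO F)).subtype := by
  have h7 : 7 ≤ finrank F (OV F) := by rw [finrank_OV]; norm_num
  have h1 := KE_perfect (QO F) QO_nondeg h7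
  have h2 : ⁅KE (QO F), KE (QO F)⁆ = KE (QO F) := by
    have := Subgroup.map_subtype_commutator (KE (QO F))
    rw [h1] at this
    rw [← this]
    ext x
    simp
  rw [← Subgroup.map_commutator, h2]

/-- the first components of the triples in `RT'` are exactly the elements of `KE` -/
theorem map_pr1_RT' : (RT' F).map (pr1 F) = (KE (QO F)).map (isoGroup (QO F)).subtype := by
  have h7 : 7 ≤ finrank F (OV F) := by rw [finrank_OV]; norm_num
  unfold RT'
  rw [Subgroup.map_commutator]
  have hp : (RT F).map (pr1 F) = p1RT F := rfl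
  rw [hp]
  apply le_antisymm
  · have h1 : ⁅p1RT F, p1RT F⁆ ≤ ⁅isoGroup (QO F), isoGroup (QO F)⁆ :=
      Subgroup.commutator_mono p1RT_le p1RT_le
    refine le_trans h1 ?_
    have h2 := commutator_eq_KE (QO F) QO_nondeg h7
    rw [← h2]
    have h3 := Subgroup.map_subtype_commutator (isoGroup (QO F))
    rw [← h3]
  · rw [← KEl_perfect]
    exact Subgroup.commutator_mono KE_le_p1RT KE_le_p1RT

theorem pr1_mem_range (t : ↥(RT' F)) : (t : GLO F × GLO F × GLO F).1 ∈ M.ρ.range := by
  rw [range_rho_eq, ← map_pr1_RT']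
  exact ⟨t, t.2, rfl⟩

/-- the lift of the first component to `Γ` -/
noncomputable def lift1 : ↥(RT' F) →* Γ :=
  ((MonoidHom.ofInjective M.inj).symm.toMonoidHom).comp
    (((pr1 F).comp (RT' F).subtype).codRestrict M.ρ.range (pr1_mem_range M))

theorem rho_lift1 (t : ↥(RT' F)) : M.ρ (lift1 M t) = (t : GLO F × GLO F × GLO F).1 := by
  unfold lift1
  have := MonoidHom.apply_ofInjective_symm M.inj
    ((((pr1 F).comp (RT' F).subtype).codRestrict M.ρ.range (pr1_mem_range M)) t)
  exact this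

theorem lift1_surjective : Function.Surjective (lift1 M) := by
  intro x
  have hx : M.ρ x ∈ (RT' F).map (pr1 F) := by
    rw [map_pr1_RT', ← range_rho_eq M]
    exact ⟨x, rfl⟩
  obtain ⟨t, ht, htx⟩ := hx
  refine ⟨⟨t, ht⟩, ?_⟩
  apply M.inj
  rw [rho_lift1]
  exact htx

/-- `ψ : RT' → Γ ⧸ Z(Γ)` -/
noncomputable def psi : ↥(RT' F) →* Γ ⧸ Subgroup.center Γ := (prj Γ).comp (lift1 M)

theorem psi_surjective : Function.Surjective (psi M) :=
  (prj_surj Γ).comp (lift1_surjective M)

theorem psi_eq_one_iff (t : ↥(RT' F)) :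
    psi M t = 1 ↔ ∃ l : F, ∀ x, (t : GLO F × GLO F × GLO F).1 x = l • x := by
  have h7 : 7 ≤ finrank F (OV F) := by rw [finrank_OV]; norm_num
  unfold psi
  rw [MonoidHom.comp_apply]
  show (lift1 M t : Γ ⧸ Subgroup.center Γ) = 1 ↔ _
  rw [QuotientGroup.eq_one_iff]
  constructor
  · intro h
    obtain ⟨l, -, hl⟩ := M.center_scalar QO_nondeg (by omega) _ h
    refine ⟨l, fun x => ?_⟩
    rw [← rho_lift1 M t]
    exact hl x
  · rintro ⟨l, hl⟩
    rw [Subgroup.mem_center_iff]
    intro g
    apply M.ext_apply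
    intro z
    rw [M.mul_apply, M.mul_apply, rho_lift1, hl, hl, map_smul]

/-- the restriction of the triality map to `RT'` -/
noncomputable def thetaR : ↥(RT' F) ≃* ↥(RT' F) where
  toFun t := ⟨thetaM t.1, thetaM_mem' t.2⟩
  invFun t := ⟨thetaM (thetaM t.1), thetaM_mem' (thetaM_mem' t.2)⟩
  left_inv t := Subtype.ext (thetaM_cube t.1)
  right_inv t := Subtype.ext (thetaM_cube t.1)
  map_mul' t t' := Subtype.ext (map_mul thetaM t.1 t'.1)

theorem thetaR_coe (t : ↥(RT' F)) :
    ((thetaR t : ↥(RT' F)) : GLO F × GLO F × GLO F) = thetaM (t : GLO F × GLO F × GLO F) := rfl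

theorem thetaR_cube (t : ↥(RT' F)) : thetaR (thetaR (thetaR t)) = t :=
  Subtype.ext (thetaM_cube t.1)

/-- a triple in `RT` whose first component is a scalar has all components scalar -/
theorem scalar_of_first {t : GLO F × GLO F × GLO F} (ht : t ∈ RT F) (l : F)
    (hl : ∀ x, t.1 x = l • x) :
    (∃ b : F, ∀ x, t.2.1 x = b • x) ∧ (∃ c : F, ∀ x, t.2.2 x = c • x) := by
  obtain ⟨h1, h2, h3, h4⟩ := ht
  have hl0 : l ≠ 0 := by
    intro h0
    have := hl oone
    rw [h0, zero_smul] at this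
    have h5 := t.1.injective (this.trans (map_zero t.1).symm)
    have h6 : onorm (oone : OV F) = 0 := by rw [h5]; simp [onorm_eq]
    rw [onorm_oone] at h6
    exact one_ne_zero h6
  obtain ⟨b, c, -, hb, hc⟩ := rel_scalar l hl0 t.2.1 t.2.2 (fun x y => by rw [← hl, h4 x y])
  exact ⟨⟨b, hb⟩, ⟨c, hc⟩⟩

theorem psi_thetaR_eq_one (t : ↥(RT' F)) (h : psi M t = 1) : psi M (thetaR t) = 1 := by
  rw [psi_eq_one_iff] at h ⊢
  obtain ⟨l, hl⟩ := h
  obtain ⟨⟨b, hb⟩, -⟩ := scalar_of_first (RT'_le t.2) l hl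
  refine ⟨b, fun x => ?_⟩
  rw [thetaR_coe, thetaM_apply]
  show hatM (t : GLO F × GLO F × GLO F).2.1 x = b • x
  rw [hatM_apply, hb, oconj_smul, oconj_oconj]

/-- **the triality automorphism** -/
theorem exists_tau : ∃ τ : (Γ ⧸ Subgroup.center Γ) ≃* (Γ ⧸ Subgroup.center Γ),
    (∀ t : ↥(RT' F), τ (psi M t) = psi M (thetaR t)) ∧ ∀ y, τ (τ (τ y)) = y := by
  have hker : ∀ t : ↥(RT' F), psi M t = 1 ↔ psi M (thetaR t) = 1 := by
    intro t
    constructor
    · exact psi_thetaR_eq_one M t
    · intro h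
      have h1 := psi_thetaR_eq_one M _ (psi_thetaR_eq_one M _ h)
      rwa [thetaR_cube] at h1
  obtain ⟨τ, hτ⟩ := exists_aut_of_surj (psi M) (psi_surjective M) thetaR hker
  refine ⟨τ, hτ, fun y => ?_⟩
  obtain ⟨t, rfl⟩ := psi_surjective M y
  rw [hτ, hτ, hτ, thetaR_cube]

end tri

end Cfsg.Agent.Lib.Helper36.Tri
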