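import Mathlib
import Cfsg.Agent.Lib.Helper36.Tri.TauGrp
import Cfsg.Agent.Lib.Helper36.AutO.Transfer2

set_option autoImplicit false
set_option linter.unusedSimpArgs false
set_option linter.unusedVariables false
set_option linter.unusedSectionVars false

/-!
# The triality automorphism of `PΩ⁺₈(F)` is not induced by a semisimilarity
-/

namespace Cfsg.Agent.Lib.Helper36.Tri

open Cfsg.Agent.Lib.Helper13 hiding isoGroup mem_isoGroup
open Cfsg.Agent.Lib.Helper36 Cfsg.Agent.Lib.Helper44 Cfsg.Agent.Lib.Helper36.AutO Module Matrix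

variable {F : Type*} [Field F]

/-- the explicit related triple over `A0` -/
theorem exists_triple_A0 : ∃ B C : GLO F,
    (((A0 F : ↥(isoGroup (QO F))) : GLO F), B, C) ∈ RT F ∧
      ∀ x, B x = omul u0 (omul (oconj v0) x) := by
  obtain ⟨A, B, C, hA, hB, hC, hrel, hAx, hBx, -⟩ :=
    refl_rel (u0 : OV F) v0 1 one_ne_zero onorm_u0 onorm_v0
  have hA0 : A = ((A0 F : ↥(isoGroup (QO F))) : GLO F) := by
    apply LinearEquiv.ext
    intro x
    rw [hAx, A0_apply, inv_one, one_mul, one_mul]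
  refine ⟨B, C, ?_, fun x => ?_⟩
  · rw [← hA0]
    exact ⟨hA, hB, hC, hrel⟩
  · rw [hBx, inv_one, one_smul]

/-- the second component of any related triple over `A0` -/
theorem second_of_A0 [Finite F] {t : GLO F × GLO F × GLO F} (ht : t ∈ RT F)
    (h1 : t.1 = ((A0 F : ↥(isoGroup (QO F))) : GLO F)) :
    ∃ b : F, ∀ x, t.2.1 x = b • omul u0 (omul (oconj v0) x) := by
  obtain ⟨B, C, hmem, hB⟩ := exists_triple_A0 (F := F)
  set t₁ : GLO F × GLO F × GLO F := (((A0 F : ↥(isoGroup (QO F))) : GLO F), B, C) with ht₁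
  have hq : t * t₁⁻¹ ∈ RT F := (RT F).mul_mem ht ((RT F).inv_mem hmem)
  have hfirst : ∀ x, (t * t₁⁻¹).1 x = (1 : F) • x := by
    intro x
    rw [Prod.fst_mul, Prod.fst_inv, h1, ht₁, mul_inv_cancel, one_smul]
    rfl
  obtain ⟨⟨b, hb⟩, -⟩ := scalar_of_first hq 1 hfirst
  refine ⟨b, fun x => ?_⟩
  have h2 := hb (B x)
  rw [Prod.snd_mul, Prod.fst_mul, Prod.snd_inv, Prod.fst_inv, ht₁] at h2
  simp only [LinearEquiv.mul_apply] at h2
  have h3 : (B⁻¹ : GLO F) (B x) = x := by
    rw [← LinearEquiv.mul_apply, inv_mul_cancel]; rfl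
  rw [h3] at h2
  rw [h2, hB]

/-- the key computation: an eigenvector of `κ B κ` is singular -/
theorem onorm_eq_zero_of_eigen (b l : F) (hl : l ≠ 0) (y : OV F)
    (h : oconj (b • omul u0 (omul (oconj v0) (oconj y))) = l • y) : onorm y = 0 := by
  have h1 : b • omul u0 (omul (oconj v0) (oconj y)) = l • oconj y := by
    have := congrArg oconj h
    rwa [oconj_oconj, oconj_smul] at this
  have h2 : b • omul (oconj v0) (oconj y) = l • omul (oconj u0) (oconj y) := by
    have := congrArg (omul (oconj u0)) h1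
    rwa [omul_smul_right, oconj_omul_cancel, onorm_u0, one_smul, omul_smul_right] at this
  have h3 : omul (b • oconj v0 - l • oconj u0) (oconj y) = 0 := by
    rw [sub_eq_add_neg, omul_add_left, omul_smul_left, h2, ← neg_smul, omul_smul_left, neg_smul,
      add_neg_cancel]
  have hs : b • oconj (v0 : OV F) - l • oconj u0 ≠ 0 := by
    intro h0
    have := congrFun h0 (Sum.inl 1)
    simp [oconj, u0, v0] at this
    exact hl this
  have := onorm_eq_zero_of_omul_left hs h3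
  rwa [onorm_oconj] at this

section fin
variable [Fintype F]

theorem h7OV : 7 ≤ finrank F (OV F) := by rw [finrank_OV]; norm_num

/-- the model `Ω⁺₈(F)` (matrix group) -/
noncomputable abbrev MO (F : Type*) [Field F] [Fintype F] :
    OModel (QO F) ↥(Cfsg.Omega F (⇑(QO F))) := omegaModel (QO F) QO_nondeg h7OV

/-- **triality is not induced by a semisimilarity** -/
theorem tau_not_mem (τ : MulAut (Cfsg.POmega F (⇑(QO F))))
    (hτ : ∀ t : ↥(RT' F), τ (psi (MO F) t) = psi (MO F) (thetaR t)) :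
    τ ∉ Cfsg.gammaPOmega F (⇑(QO F)) := by
  intro hmem
  rw [mem_gammaPOmega_iff] at hmem
  obtain ⟨g, σ, hpair, hind⟩ := hmem
  -- a triple over `A0`
  have hA0 : ((A0 F : ↥(isoGroup (QO F))) : GLO F) ∈ (RT' F).map (pr1 F) := by
    rw [map_pr1_RT']
    exact ⟨A0 F, A0_mem_KE, rfl⟩
  obtain ⟨t₀, ht₀, ht₀1⟩ := hA0
  set t : ↥(RT' F) := ⟨t₀, ht₀⟩ with ht
  have ht1 : (t : GLO F × GLO F × GLO F).1 = ((A0 F : ↥(isoGroup (QO F))) : GLO F) := ht₀1
  set s := lift1 (MO F) t with hs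
  have hρs : (MO F).ρ s = ((A0 F : ↥(isoGroup (QO F))) : GLO F) := by
    rw [hs, rho_lift1, ht1]
  obtain ⟨s', hs'⟩ := exists_semiconj_Omega (⇑(QO F)) g σ hpair s
  have h1 : τ (prj _ s) = prj _ s' := hind s s' hs'
  have h2 : τ (prj _ s) = prj _ (lift1 (MO F) (thetaR t)) := hτ t
  rw [h1] at h2
  have h3 : s'⁻¹ * lift1 (MO F) (thetaR t) ∈ Subgroup.center ↥(Cfsg.Omega F (⇑(QO F))) :=
    QuotientGroup.eq.1 h2
  obtain ⟨l, hl2, hl⟩ := (MO F).center_scalar QO_nondeg (by have := h7OV (F := F); omega) _ h3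
  have hl0 : l ≠ 0 := by
    intro h0
    rw [h0, mul_zero] at hl2
    exact zero_ne_one hl2
  -- the vector `y = g σ(w0)`
  set y : OV F := (g : Matrix _ _ F) *ᵥ vmap σ w0 with hy
  obtain ⟨c, hc⟩ := hpair
  have hQy : onorm y = (c : F) := by
    have := hc w0
    rw [QO_apply, QO_apply, onorm_w0, map_one, mul_one] at this
    exact this
  have hs'y : (MO F).ρ s' y = y := by
    rw [omegaModel_apply, hs', hy, Matrix.mulVec_mulVec,
      Matrix.mul_assoc _ ((g⁻¹ : GL (Fin 4 ⊕ Fin 4) F) : Matrix (Fin 4 ⊕ Fin 4) (Fin 4 ⊕ Fin 4) F)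
        (g : Matrix (Fin 4 ⊕ Fin 4) (Fin 4 ⊕ Fin 4) F), ← Units.val_mul,
      inv_mul_cancel, Units.val_one, Matrix.mul_one, ← Matrix.mulVec_mulVec, map_mulVec_vmap]
    congr 2
    have := omegaModel_apply (QO F) QO_nondeg h7OV s w0
    rw [← this, hρs, A0_w0]
  have h4 : (MO F).ρ (lift1 (MO F) (thetaR t)) y = l • y := by
    have := hl y
    rw [(MO F).mul_apply] at this
    have h5 := congrArg ((MO F).ρ s') this
    rw [(MO F).inv_apply, map_smul, hs'y] at h5
    exact h5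
  rw [rho_lift1, thetaR_coe, thetaM_apply] at h4
  obtain ⟨b, hb⟩ := second_of_A0 (RT'_le t.2) ht1
  have h5 : oconj (b • omul u0 (omul (oconj v0) (oconj y))) = l • y := by
    rw [← hb]
    exact h4
  have h6 := onorm_eq_zero_of_eigen b l hl0 y h5
  rw [hQy] at h6
  exact c.ne_zero h6

/-- **Existence of triality**: an automorphism of `PΩ⁺₈(F)` of order three outside `PΓO⁺₈(F)`. -/
theorem exists_triality : ∃ τ : MulAut (Cfsg.POmega F (Cfsg.quadFormPlus 4 F)),
    τ ∉ Cfsg.gammaPOmega F (Cfsg.quadFormPlus 4 F) ∧ τ * τ * τ = 1 := by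
  obtain ⟨τ, hτ, hcube⟩ := exists_tau (MO F)
  refine ⟨τ, tau_not_mem τ hτ, ?_⟩
  apply MulEquiv.ext
  intro y
  exact hcube y

end fin

end Cfsg.Agent.Lib.Helper36.Tri
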