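import Mathlib
import Cfsg.Agent.Lib.Helper36.AutO.LineRel2

set_option autoImplicit false

/-!
# Relations between totally singular lines: commuting, collinear (definitions for project TRI8)
-/

namespace Cfsg.Agent.Lib.Helper36.Tri

open Cfsg.Agent.Lib.Helper36.AutO

variable {F V : Type*} [Field F] [AddCommGroup V] [Module F V]

/-- the root subgroups of two totally singular lines commute: the lines are perpendicular or meet -/
def LComm (Q : QuadraticForm F V) (L L' : Submodule F V) : Prop := LPerp Q L L' ∨ LMeet L L'

/-- two totally singular lines are collinear (in the root group geometry): perpendicular and meeting -/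
def LColl (Q : QuadraticForm F V) (L L' : Submodule F V) : Prop := LPerp Q L L' ∧ LMeet L L'

theorem LComm.symm {Q : QuadraticForm F V} {L L' : Submodule F V} (h : LComm Q L L') :
    LComm Q L' L := h.imp LPerp.symm LMeet.symm

theorem LColl.symm {Q : QuadraticForm F V} {L L' : Submodule F V} (h : LColl Q L L') :
    LColl Q L' L := ⟨h.1.symm, h.2.symm⟩

theorem LColl.comm {Q : QuadraticForm F V} {L L' : Submodule F V} (h : LColl Q L L') :
    LComm Q L L' := Or.inl h.1

end Cfsg.Agent.Lib.Helper36.Tri
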