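import Mathlib
import Cfsg.Agent.Lib.Helper36.AutO.Normalize
import Cfsg.Agent.Lib.Helper36.Tri.GeoDefs
import Cfsg.Agent.Lib.Helper36.MaxTS

set_option autoImplicit false

/-!
# Stars of root groups (definitions for project TRI8, upper bound for `Aut PΩ⁺₈`)
-/

namespace Cfsg.Agent.Lib.Helper36.Tri

open Cfsg.Agent.Lib.Helper36 Cfsg.Agent.Lib.Helper36.AutO Module

section grp
variable {H : Type*} [Group H] (p : ℕ)

/-- the star of two (commuting, non-collinear) root groups: the group generated by the root groups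
commuting with both and with all their common collinear neighbours -/
def gstar (R₁ R₂ : Subgroup H) : Subgroup H :=
  Subgroup.closure {x | ∃ R, GP.IsRoot p R ∧ GP.Comm R R₁ ∧ GP.Comm R R₂ ∧
    (∀ J, GP.IsRoot p J → GP.Coll p J R₁ → GP.Coll p J R₂ → GP.Comm R J) ∧ x ∈ R}

end grp

section model
variable {F V : Type*} [Field F] [AddCommGroup V] [Module F V]
variable {Q : QuadraticForm F V} {Γ : Type*} [Group Γ] (M : OModel Q Γ)

/-- the group generated by the root groups of the totally singular lines inside `T` -/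
def UMb (T : Submodule F V) : Subgroup (Γ ⧸ Subgroup.center Γ) :=
  Subgroup.closure {x | ∃ p w : V, IsLine Q p w ∧ Submodule.span F {p, w} ≤ T ∧ x ∈ M.Xb p w}

/-- an automorphism permuting the unipotent radicals `Ub r` of the stabilisers of singular points -/
def PointType (α : MulAut (Γ ⧸ Subgroup.center Γ)) : Prop :=
  ∀ r : V, r ≠ 0 → Q r = 0 →
    ∃ r' : V, r' ≠ 0 ∧ Q r' = 0 ∧ (M.Ub r).map α.toMonoidHom = M.Ub r'

end model

end Cfsg.Agent.Lib.Helper36.Tri
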