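import Mathlib
import Cfsg.Agent.Lib.Helper36.Tri.StarDefs
import Cfsg.Agent.Lib.Helper36.Tri.TauGrp
import Cfsg.Agent.Lib.Helper36.AutO.Transfer2
import Cfsg.Agent.Lib.Helper39.TriGA
import Cfsg.Agent.Lib.Helper45.TriGB
import Cfsg.Agent.Lib.Helper13.TriOrb2
import Cfsg.Agent.Lib.Helper39.TriUA
import Cfsg.Agent.Lib.Helper39.TriUE
import Cfsg.Agent.Lib.Helper45.TriUB
import Cfsg.Agent.Lib.Helper13.TriUD
import Cfsg.Agent.Lib.Helper93.TriUF
import Cfsg.Agent.Lib.Helper13.TriCnt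
import Cfsg.Agent.Lib.Helper95.TriUC

set_option autoImplicit false

namespace Cfsg.Agent.Lib.Helper36.Tri

open Cfsg.Agent.Lib.Helper13 hiding isoGroup mem_isoGroup
open Cfsg.Agent.Lib.Helper36 Cfsg.Agent.Lib.Helper44 Cfsg.Agent.Lib.Helper36.AutO Module

-- [U-A]
section grp
variable {H H' : Type*} [Group H] [Group H'] (p : ℕ)
theorem gstar_map (e : H ≃* H') (R₁ R₂ : Subgroup H) :
    gstar p (R₁.map e.toMonoidHom) (R₂.map e.toMonoidHom) = (gstar p R₁ R₂).map e.toMonoidHom :=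
  Cfsg.Agent.Lib.Helper39.TriU.gstar_map p e R₁ R₂
end grp

section model
variable {F V : Type*} [Field F] [AddCommGroup V] [Module F V]
local notation "pol" => QuadraticMap.polar
variable {Q : QuadraticForm F V} {Γ : Type*} [Group Γ] (M : OModel Q Γ)
variable [Finite F] [FiniteDimensional F V]
  (hQ : (QuadraticMap.polarBilin Q).Nondegenerate)
  (ch : ℕ) [hch : Fact ch.Prime] [hchar : CharP F ch]

include M hQ ch hch hchar

-- [U-A]
theorem gstar_eq_Ub [Finite Γ] (h7 : 7 ≤ finrank F V) {r a b : V} (ha : IsLine Q r a)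
    (hb : IsLine Q r b) (hab : pol (⇑Q) a b ≠ 0) :
    gstar ch (M.Xb r a) (M.Xb r b) = M.Ub r :=
  Cfsg.Agent.Lib.Helper39.TriU.gstar_eq_Ub M hQ ch h7 ha hb hab

-- [U-B]
theorem gstar_eq_UMb [Finite Γ] (h8 : finrank F V = 8) {a b a' b' : V} (h : IsLine Q a b)
    (h' : IsLine Q a' b')
    (hperp : LPerp Q (Submodule.span F {a, b}) (Submodule.span F {a', b'}))
    (hdisj : ¬ LMeet (Submodule.span F {a, b}) (Submodule.span F {a', b'})) :
    gstar ch (M.Xb a b) (M.Xb a' b') =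
      UMb M (Submodule.span F {a, b} ⊔ Submodule.span F {a', b'}) :=
  Cfsg.Agent.Lib.Helper45.Tri.gstar_eq_UMb M hQ ch h8 h h' hperp hdisj

-- [U-C]
theorem map_Ub_cases [Finite Γ] (h8 : finrank F V = 8) (α : MulAut (Γ ⧸ Subgroup.center Γ)) (r : V)
    (hr0 : r ≠ 0) (hr : Q r = 0) :
    (∃ r' : V, r' ≠ 0 ∧ Q r' = 0 ∧ (M.Ub r).map α.toMonoidHom = M.Ub r') ∨
      (∃ T : Submodule F V, IsTS Q T ∧ finrank F T = 4 ∧
        (M.Ub r).map α.toMonoidHom = UMb M T) :=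
  Cfsg.Agent.Lib.Helper95.TriU.map_Ub_cases M hQ ch h8 α r hr0 hr

-- [U-D]
theorem UMb_conj (k : Γ) (T : Submodule F V) :
    (UMb M T).map (MulAut.conj (prj Γ k)).toMonoidHom =
      UMb M (T.map ((M.ρ k : V ≃ₗ[F] V) : V →ₗ[F] V)) :=
  Cfsg.Agent.Lib.Helper13.TriUD.UMb_conj M hQ ch k T

theorem exists_conj_UMb [Finite Γ] (h8 : finrank F V = 8) {T T' : Submodule F V} (hT : IsTS Q T)
    (hT' : IsTS Q T') (hf : finrank F T = 4) (hf' : finrank F T' = 4)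
    (hpar : Even (finrank F ↥(T ⊓ T'))) :
    ∃ k : Γ, (UMb M T).map (MulAut.conj (prj Γ k)).toMonoidHom = UMb M T' :=
  Cfsg.Agent.Lib.Helper13.TriUD.exists_conj_UMb M hQ ch h8 hT hT' hf hf' hpar

theorem exists_conj_Ub (h5 : 5 ≤ finrank F V) {r r' : V} (hr0 : r ≠ 0) (hr : Q r = 0) (hr'0 : r' ≠ 0)
    (hr' : Q r' = 0) :
    ∃ k : Γ, (M.Ub r).map (MulAut.conj (prj Γ k)).toMonoidHom = M.Ub r' :=
  Cfsg.Agent.Lib.Helper13.TriUD.exists_conj_Ub M hQ ch h5 hr0 hr hr'0 hr'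

-- [U-E]
theorem pointType_of_conj (h5 : 5 ≤ finrank F V) (α β : MulAut (Γ ⧸ Subgroup.center Γ)) (r₀ : V)
    (hr₀0 : r₀ ≠ 0) (hr₀ : Q r₀ = 0) (k : Γ)
    (h : (M.Ub r₀).map α.toMonoidHom =
      ((M.Ub r₀).map β.toMonoidHom).map (MulAut.conj (prj Γ k)).toMonoidHom) :
    PointType M (β⁻¹ * α) :=
  Cfsg.Agent.Lib.Helper39.TriU.pointType_of_conj M hQ ch h5 α β r₀ hr₀0 hr₀ k h

-- [U-F]
theorem main_of_pointType [Finite Γ] (h7 : 7 ≤ finrank F V) (α : MulAut (Γ ⧸ Subgroup.center Γ))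
    (hα : PointType M α) :
    ∃ (σ : F →+* F) (g : V → V) (c : F), c ≠ 0 ∧ (∀ x y, g (x + y) = g x + g y) ∧
      (∀ (k : F) (x : V), g (k • x) = σ k • g x) ∧ Function.Bijective g ∧
      (∀ x, Q (g x) = c * σ (Q x)) ∧
      ∀ s s' : Γ, (∀ x, M.ρ s' (g x) = g (M.ρ s x)) → α (prj Γ s) = prj Γ s' :=
  Cfsg.Agent.Lib.Helper93.TriUF.main_of_pointType M hQ ch h7 α hα

end model

section mat
variable {ι : Type} [Fintype ι] [DecidableEq ι] {F : Type*} [Field F]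

-- [U-F]
theorem mem_gamma_of_pointType [Fintype F] (Q : QuadraticForm F (ι → F))
    (hQ : (QuadraticMap.polarBilin Q).Nondegenerate) (h7 : 7 ≤ finrank F (ι → F))
    (β : MulAut (Cfsg.POmega F (⇑Q))) (hβ : PointType (omegaModel Q hQ h7) β) :
    β ∈ Cfsg.gammaPOmega F (⇑Q) :=
  Cfsg.Agent.Lib.Helper93.TriUF.mem_gamma_of_pointType Q hQ h7 β hβ

-- [CNT]
theorem card_gammaPOmega_plus {F : Type*} [Field F] [Fintype F] (p f : ℕ) [Fact p.Prime] (hf : 1 ≤ f)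
    (hF : Fintype.card F = p ^ f) (m : ℕ) (hm : 4 ≤ m) :
    Nat.card ↥(Cfsg.gammaPOmega F (Cfsg.quadFormPlus m F)) =
      (if p = 2 then 2 else (if Even (m * (p ^ f - 1) / 2) then 8 else 4)) * f *
        Nat.card (Cfsg.POmega F (Cfsg.quadFormPlus m F)) :=
  Cfsg.Agent.Lib.Helper13.TriCnt.card_gammaPOmega_plus p f hf hF m hm

end mat

end Cfsg.Agent.Lib.Helper36.Tri
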