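import Mathlib
import Cfsg.Agent.Lib.Helper36.Tri.UpperFacts
import Cfsg.Agent.Lib.Helper36.Tri.TauOut

set_option autoImplicit false
set_option linter.unusedSimpArgs false
set_option linter.unusedVariables false
set_option linter.unusedSectionVars false

/-!
# `|Aut PΩ⁺₈(q)| = 3 |PΓO⁺₈(q)|`
-/

namespace Cfsg.Agent.Lib.Helper36.Tri

open Cfsg.Agent.Lib.Helper13 hiding isoGroup mem_isoGroup
open Cfsg.Agent.Lib.Helper36 Cfsg.Agent.Lib.Helper44 Cfsg.Agent.Lib.Helper36.AutO Module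

section abs
variable {F V : Type*} [Field F] [AddCommGroup V] [Module F V]
variable {Q : QuadraticForm F V} {Γ : Type*} [Group Γ] (M : OModel Q Γ)
variable [Finite F] [FiniteDimensional F V]
  (hQ : (QuadraticMap.polarBilin Q).Nondegenerate)
  (ch : ℕ) [hch : Fact ch.Prime] [hchar : CharP F ch]

include M hQ ch hch hchar in
/-- the abstract coset count -/
theorem card_aut_le_abs [Finite Γ] (h8 : finrank F V = 8) (r0 : V) (r0_ne : r0 ≠ 0)
    (Q_r0 : Q r0 = 0) (Γs : Subgroup (MulAut (Γ ⧸ Subgroup.center Γ)))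
    (hΓs : ∀ γ : MulAut (Γ ⧸ Subgroup.center Γ), PointType M γ → γ ∈ Γs) :
    Nat.card (MulAut (Γ ⧸ Subgroup.center Γ)) ≤ 3 * Nat.card ↥Γs := by
  classical
  have h5 : 5 ≤ finrank F V := by omega
  have hdim : finrank F V = 2 * 4 := by rw [h8]
  -- the key: automorphisms with conjugate images of `Ub r0` differ by an element of `PΓO`
  have key : ∀ (α β : MulAut (Γ ⧸ Subgroup.center Γ)) (k : Γ),
      (M.Ub r0).map α.toMonoidHom =
        ((M.Ub r0).map β.toMonoidHom).map (MulAut.conj (prj _ k)).toMonoidHom →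
      β⁻¹ * α ∈ Γs := by
    intro α β k h
    exact hΓs _ (pointType_of_conj M hQ ch h5 α β r0 r0_ne Q_r0 k h)
  have same0 : ∀ (α β : MulAut (Γ ⧸ Subgroup.center Γ)) (r' r'' : V), r' ≠ 0 → Q r' = 0 →
      r'' ≠ 0 → Q r'' = 0 → (M.Ub r0).map α.toMonoidHom = M.Ub r' →
      (M.Ub r0).map β.toMonoidHom = M.Ub r'' → β⁻¹ * α ∈ Γs := by
    intro α β r' r'' h1 h2 h3 h4 hα hβ
    obtain ⟨k, hk⟩ := exists_conj_Ub M hQ ch h5 h3 h4 h1 h2
    apply key α β k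
    rw [hα, hβ, hk]
  have sameMs : ∀ (α β : MulAut (Γ ⧸ Subgroup.center Γ)) (T T' : Submodule F V),
      IsTS Q T → finrank F T = 4 → IsTS Q T' → finrank F T' = 4 →
      Even (finrank F ↥(T' ⊓ T)) →
      (M.Ub r0).map α.toMonoidHom = UMb M T →
      (M.Ub r0).map β.toMonoidHom = UMb M T' → β⁻¹ * α ∈ Γs := by
    intro α β T T' h1 h2 h3 h4 hpar hα hβ
    obtain ⟨k, hk⟩ := exists_conj_UMb M hQ ch h8 h3 h1 h4 h2 hpar
    apply key α β k
    rw [hα, hβ, hk]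
  have hone : (M.Ub r0).map (1 : MulAut (Γ ⧸ Subgroup.center Γ)).toMonoidHom = M.Ub r0 := by
    show (M.Ub r0).map (MonoidHom.id _) = _
    rw [Subgroup.map_id]
  -- representatives
  have hrep : ∃ rep : Fin 3 → MulAut (Γ ⧸ Subgroup.center Γ),
      ∀ α, ∃ i, (rep i)⁻¹ * α ∈ Γs := by
    by_cases hex1 : ∃ (α₁ : MulAut (Γ ⧸ Subgroup.center Γ)) (T₁ : Submodule F V),
        IsTS Q T₁ ∧ finrank F T₁ = 4 ∧ (M.Ub r0).map α₁.toMonoidHom = UMb M T₁
    · obtain ⟨α₁, T₁, hT₁, hf₁, hα₁⟩ := hex1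
      by_cases hex2 : ∃ (α₂ : MulAut (Γ ⧸ Subgroup.center Γ)) (T₂ : Submodule F V),
          IsTS Q T₂ ∧ finrank F T₂ = 4 ∧
            (M.Ub r0).map α₂.toMonoidHom = UMb M T₂ ∧ ¬ Even (finrank F ↥(T₁ ⊓ T₂))
      · obtain ⟨α₂, T₂, hT₂, hf₂, hα₂, hodd₂⟩ := hex2
        refine ⟨![1, α₁, α₂], fun α => ?_⟩
        rcases map_Ub_cases M hQ ch h8 α r0 r0_ne Q_r0 with
          ⟨r', hr'0, hr', hα⟩ | ⟨T, hT, hf, hα⟩
        · exact ⟨0, same0 α 1 r' r0 hr'0 hr' r0_ne Q_r0 hα hone⟩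
        · by_cases hev : Even (finrank F ↥(T₁ ⊓ T))
          · exact ⟨1, sameMs α α₁ T T₁ hT hf hT₁ hf₁ hev hα hα₁⟩
          · refine ⟨2, sameMs α α₂ T T₂ hT hf hT₂ hf₂ ?_ hα hα₂⟩
            have hsum := even_delta_sum' Q hQ hdim hT₂ hf₂ hT₁ hf₁ hT hf
            have b1 : finrank F ↥(T₂ ⊓ T₁) ≤ 4 := finrank_inf_le_left' hf₂
            have b2 : finrank F ↥(T₁ ⊓ T) ≤ 4 := finrank_inf_le_left' hf₁
            have b3 : finrank F ↥(T₂ ⊓ T) ≤ 4 := finrank_inf_le_left' hf₂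
            have e1 : finrank F ↥(T₂ ⊓ T₁) = finrank F ↥(T₁ ⊓ T₂) := by rw [inf_comm]
            rw [Nat.even_iff] at hsum hodd₂ hev ⊢
            omega
      · refine ⟨![1, α₁, 1], fun α => ?_⟩
        rcases map_Ub_cases M hQ ch h8 α r0 r0_ne Q_r0 with
          ⟨r', hr'0, hr', hα⟩ | ⟨T, hT, hf, hα⟩
        · exact ⟨0, same0 α 1 r' r0 hr'0 hr' r0_ne Q_r0 hα hone⟩
        · have hev : Even (finrank F ↥(T₁ ⊓ T)) := by
            by_contra hne
            exact hex2 ⟨α, T, hT, hf, hα, hne⟩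
          exact ⟨1, sameMs α α₁ T T₁ hT hf hT₁ hf₁ hev hα hα₁⟩
    · refine ⟨![1, 1, 1], fun α => ?_⟩
      rcases map_Ub_cases M hQ ch h8 α r0 r0_ne Q_r0 with
        ⟨r', hr'0, hr', hα⟩ | ⟨T, hT, hf, hα⟩
      · exact ⟨0, same0 α 1 r' r0 hr'0 hr' r0_ne Q_r0 hα hone⟩
      · exact absurd ⟨α, T, hT, hf, hα⟩ hex1
  obtain ⟨rep, hrep⟩ := hrep
  -- counting
  have hfinA : Finite (MulAut (Γ ⧸ Subgroup.center Γ)) :=
    Finite.of_injective (fun e : MulAut (Γ ⧸ Subgroup.center Γ) =>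
      (e : Γ ⧸ Subgroup.center Γ → Γ ⧸ Subgroup.center Γ)) DFunLike.coe_injective
  let f : MulAut (Γ ⧸ Subgroup.center Γ) → Fin 3 × ↥Γs := fun α =>
    ((hrep α).choose, ⟨(rep (hrep α).choose)⁻¹ * α, (hrep α).choose_spec⟩)
  have hf : Function.Injective f := by
    intro α β h
    have h1 : (hrep α).choose = (hrep β).choose := congrArg Prod.fst h
    have h2 : (rep (hrep α).choose)⁻¹ * α = (rep (hrep β).choose)⁻¹ * β :=
      congrArg (fun x => (x.2 : MulAut (Γ ⧸ Subgroup.center Γ))) h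
    rw [h1] at h2
    exact mul_left_cancel h2
  have := Nat.card_le_card_of_injective f hf
  rwa [Nat.card_prod, Nat.card_fin] at this

end abs

variable {F : Type*} [Field F] [Fintype F]

/-- a singular vector -/
def r0 : OV F := Pi.single (Sum.inl 0) 1

theorem r0_ne : (r0 : OV F) ≠ 0 := by
  intro h
  have := congrFun h (Sum.inl 0)
  simp [r0] at this

theorem QO_r0 : QO F (r0 : OV F) = 0 := by
  rw [QO_apply, onorm_eq]; simp [r0]

/-- `|Aut PΩ⁺₈(q)| ≤ 3 |PΓO⁺₈(q)|` -/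
theorem card_aut_le : Nat.card (MulAut (Cfsg.POmega F (⇑(QO F)))) ≤
    3 * Nat.card ↥(Cfsg.gammaPOmega F (⇑(QO F))) := by
  obtain ⟨ch, hch⟩ := CharP.exists F
  have := hch
  have hp : ch.Prime := CharP.char_is_prime F ch
  have : Fact ch.Prime := ⟨hp⟩
  exact card_aut_le_abs (MO F) QO_nondeg ch finrank_OV r0 r0_ne QO_r0 _
    (fun γ hγ => mem_gamma_of_pointType (QO F) QO_nondeg h7OV γ hγ)

end Cfsg.Agent.Lib.Helper36.Tri
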