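import Mathlib
import Cfsg.Agent.Lib.Helper36.Tri.Upper

set_option autoImplicit false
set_option linter.unusedSimpArgs false
set_option linter.unusedVariables false
set_option linter.unusedSectionVars false

/-!
# `|Aut PΩ⁺₈(q)| = 3 |PΓO⁺₈(q)|`
-/

namespace Cfsg.Agent.Lib.Helper36.Tri

open Cfsg.Agent.Lib.Helper36 Cfsg.Agent.Lib.Helper44 Cfsg.Agent.Lib.Helper36.AutO Module

variable {F : Type*} [Field F] [Fintype F]

/-- **`PΓO⁺₈(q)` has index three in `Aut PΩ⁺₈(q)`.** -/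
theorem index_gamma_eq_three : (Cfsg.gammaPOmega F (Cfsg.quadFormPlus 4 F)).index = 3 := by
  have hfinA : Finite (MulAut (Cfsg.POmega F (Cfsg.quadFormPlus 4 F))) :=
    Finite.of_injective (fun e : MulAut (Cfsg.POmega F (Cfsg.quadFormPlus 4 F)) =>
      (e : Cfsg.POmega F (Cfsg.quadFormPlus 4 F) → Cfsg.POmega F (Cfsg.quadFormPlus 4 F)))
      DFunLike.coe_injective
  set Γs := Cfsg.gammaPOmega F (Cfsg.quadFormPlus 4 F) with hΓs
  obtain ⟨τ, hτ, hcube⟩ := exists_triality (F := F)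
  rw [← hΓs] at hτ
  have hle : Nat.card (MulAut (Cfsg.POmega F (Cfsg.quadFormPlus 4 F))) ≤ 3 * Nat.card ↥Γs :=
    card_aut_le (F := F)
  have hmul := Γs.index_mul_card
  have hpos : 0 < Nat.card ↥Γs := Nat.card_pos
  have h3 : Γs.index ≤ 3 := by
    rw [← hmul] at hle
    exact Nat.le_of_mul_le_mul_right hle hpos
  have h0 : Γs.index ≠ 0 := Subgroup.index_ne_zero_of_finite
  have h1 : Γs.index ≠ 1 := by
    intro h
    rw [Subgroup.index_eq_one] at h
    exact hτ (by rw [h]; trivial)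
  have h2 : Γs.index ≠ 2 := by
    intro h
    have hsq : τ * τ ∈ Γs := Subgroup.mul_self_mem_of_index_two h τ
    have : τ⁻¹ = τ * τ := by
      rw [inv_eq_iff_mul_eq_one, ← mul_assoc]
      exact hcube
    rw [← this] at hsq
    exact hτ (by simpa using Γs.inv_mem hsq)
  omega

/-- `|Aut PΩ⁺₈(q)| = 3 |PΓO⁺₈(q)|` -/
theorem card_aut_plus8 : Nat.card (MulAut (Cfsg.POmega F (Cfsg.quadFormPlus 4 F))) =
    3 * Nat.card ↥(Cfsg.gammaPOmega F (Cfsg.quadFormPlus 4 F)) := by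
  rw [← index_gamma_eq_three (F := F)]
  exact (Subgroup.index_mul_card _).symm

end Cfsg.Agent.Lib.Helper36.Tri
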