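import Mathlib
import Cfsg.Agent.Lib.Helper36.AutO.AutCount

set_option autoImplicit false
set_option linter.unusedSimpArgs false
set_option linter.unusedVariables false
set_option linter.unusedSectionVars false

/-!
# The field part on the subgroup `gammaPOmega` (no hypothesis `gammaPOmega = ⊤`)
-/

namespace Cfsg.Agent.Lib.Helper36.Tri

open Cfsg.Agent.Lib.Helper36 Cfsg.Agent.Lib.Helper44 Cfsg.Agent.Lib.Helper36.AutO Module Matrix

section mat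
variable {ι : Type} [Fintype ι] [DecidableEq ι] {F : Type*} [Field F] [Fintype F]

variable (Q : QuadraticForm F (ι → F)) (hQ : (QuadraticMap.polarBilin Q).Nondegenerate)
  (h7 : 7 ≤ Fintype.card ι)

theorem exists_pairG (β : ↥(Cfsg.gammaPOmega F (⇑Q))) :
    ∃ (g : GL ι F) (σ : F ≃+* F), Cfsg.IsSemisimilarityPair (⇑Q) g σ ∧
      Cfsg.IsInducedBySemilinearPOmega (⇑Q) g σ (β : MulAut (Cfsg.POmega F (⇑Q))) :=
  (mem_gammaPOmega_iff (⇑Q) _).1 β.2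

/-- the field part (as a function) -/
noncomputable def fieldPartGFun (β : ↥(Cfsg.gammaPOmega F (⇑Q))) : RingAut F :=
  (exists_pairG Q β).choose_spec.choose

include hQ h7 in
theorem fieldPartGFun_eq (β : ↥(Cfsg.gammaPOmega F (⇑Q))) (g : GL ι F) (σ : F ≃+* F)
    (hp : Cfsg.IsSemisimilarityPair (⇑Q) g σ)
    (hi : Cfsg.IsInducedBySemilinearPOmega (⇑Q) g σ (β : MulAut (Cfsg.POmega F (⇑Q)))) :
    fieldPartGFun Q β = σ := by
  obtain ⟨hp', hi'⟩ := (exists_pairG Q β).choose_spec.choose_spec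
  exact pair_sigma_unique Q hQ h7 _ g _ σ _ hp' hp hi' hi

theorem fieldPartGFun_spec (β : ↥(Cfsg.gammaPOmega F (⇑Q))) :
    ∃ g : GL ι F, Cfsg.IsSemisimilarityPair (⇑Q) g (fieldPartGFun Q β) ∧
      Cfsg.IsInducedBySemilinearPOmega (⇑Q) g (fieldPartGFun Q β)
        (β : MulAut (Cfsg.POmega F (⇑Q))) :=
  ⟨(exists_pairG Q β).choose, (exists_pairG Q β).choose_spec.choose_spec⟩

/-- **The field part** of an element of `PΓO(Q)`. -/
noncomputable def fieldPartG : ↥(Cfsg.gammaPOmega F (⇑Q)) →* RingAut F where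
  toFun := fieldPartGFun Q
  map_one' := fieldPartGFun_eq Q hQ h7 1 1 (RingEquiv.refl F) (isSemisimilarityPair_one _)
    (isInduced_one _)
  map_mul' := by
    intro β₁ β₂
    obtain ⟨g₁, hp₁, hi₁⟩ := fieldPartGFun_spec Q β₁
    obtain ⟨g₂, hp₂, hi₂⟩ := fieldPartGFun_spec Q β₂
    exact fieldPartGFun_eq Q hQ h7 (β₁ * β₂) _ _
      (isSemisimilarityPair_mul (⇑Q) g₁ g₂ _ _ hp₁ hp₂)
      (isInduced_mul (⇑Q) g₁ g₂ _ _ _ _ hp₂ hi₁ hi₂)

theorem fieldPartG_eq (β : ↥(Cfsg.gammaPOmega F (⇑Q))) (g : GL ι F) (σ : F ≃+* F)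
    (hp : Cfsg.IsSemisimilarityPair (⇑Q) g σ)
    (hi : Cfsg.IsInducedBySemilinearPOmega (⇑Q) g σ (β : MulAut (Cfsg.POmega F (⇑Q)))) :
    fieldPartG Q hQ h7 β = σ :=
  fieldPartGFun_eq Q hQ h7 β g σ hp hi

theorem pairAut_mem_gamma (g : GL ι F) (σ : F ≃+* F) (hp : Cfsg.IsSemisimilarityPair (⇑Q) g σ) :
    pairAut (⇑Q) g σ hp ∈ Cfsg.gammaPOmega F (⇑Q) :=
  (mem_gammaPOmega_iff (⇑Q) _).2 ⟨g, σ, hp, isInduced_pairAut (⇑Q) g σ hp⟩

theorem fieldPartG_pairAut (g : GL ι F) (σ : F ≃+* F)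
    (hp : Cfsg.IsSemisimilarityPair (⇑Q) g σ) :
    fieldPartG Q hQ h7 ⟨pairAut (⇑Q) g σ hp, pairAut_mem_gamma Q g σ hp⟩ = σ :=
  fieldPartG_eq Q hQ h7 _ g σ hp (isInduced_pairAut (⇑Q) g σ hp)

theorem pgoAut_le_gamma : Cfsg.pgoAut F (⇑Q) ≤ Cfsg.gammaPOmega F (⇑Q) := by
  intro β hβ
  rw [pgoAut_eq] at hβ
  obtain ⟨g, rfl⟩ := hβ
  rw [mem_gammaPOmega_iff]
  refine ⟨(g : GL ι F), RingEquiv.refl F, ?_, (isInduced_iff (⇑Q) g _).mpr rfl⟩
  obtain ⟨c, hc⟩ := g.2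
  exact ⟨c, fun v => hc v⟩

/-- the kernel of the field part is the image of the similarity group -/
theorem ker_fieldPartG :
    (fieldPartG Q hQ h7).ker = (Cfsg.pgoAut F (⇑Q)).subgroupOf (Cfsg.gammaPOmega F (⇑Q)) := by
  ext β
  rw [MonoidHom.mem_ker, Subgroup.mem_subgroupOf, pgoAut_eq]
  constructor
  · intro h
    obtain ⟨g, hp, hi⟩ := fieldPartGFun_spec Q β
    have h1 : fieldPartGFun Q β = RingEquiv.refl F := h
    rw [h1] at hp hi
    have hg : g ∈ Cfsg.Geo.quadSimilarityGroup (⇑Q) := by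
      obtain ⟨c, hc⟩ := hp
      exact ⟨c, fun v => hc v⟩
    exact ⟨⟨g, hg⟩, ((isInduced_iff (⇑Q) ⟨g, hg⟩ _).mp hi).symm⟩
  · rintro ⟨g, hg⟩
    apply fieldPartG_eq Q hQ h7 _ (g : GL ι F) (RingEquiv.refl F)
    · obtain ⟨c, hc⟩ := g.2
      exact ⟨c, fun v => hc v⟩
    · rw [← hg]
      exact (isInduced_iff (⇑Q) g _).mpr rfl

/-- the section of the field part given by the field automorphisms acting on coordinates -/
noncomputable def fieldSectionG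
    (hσ : ∀ σ : F ≃+* F, Cfsg.IsSemisimilarityPair (⇑Q) (1 : GL ι F) σ) :
    RingAut F →* ↥(Cfsg.gammaPOmega F (⇑Q)) :=
  (fieldSection Q hσ).codRestrict _ (fun σ => pairAut_mem_gamma Q 1 σ (hσ σ))

theorem fieldSectionG_coe
    (hσ : ∀ σ : F ≃+* F, Cfsg.IsSemisimilarityPair (⇑Q) (1 : GL ι F) σ) (σ : RingAut F) :
    ((fieldSectionG Q hσ σ : ↥(Cfsg.gammaPOmega F (⇑Q))) : MulAut (Cfsg.POmega F (⇑Q))) =
      pairAut (⇑Q) 1 σ (hσ σ) := rfl

theorem fieldPartG_fieldSectionG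
    (hσ : ∀ σ : F ≃+* F, Cfsg.IsSemisimilarityPair (⇑Q) (1 : GL ι F) σ) (σ : RingAut F) :
    fieldPartG Q hQ h7 (fieldSectionG Q hσ σ) = σ :=
  fieldPartG_pairAut Q hQ h7 1 σ (hσ σ)

include hQ h7 in
/-- `|PΓO(Q)| = |Aut F| · |PGO(Q)|` when the form is invariant under the field automorphisms -/
theorem card_gamma_eq (hσ : ∀ σ : F ≃+* F, Cfsg.IsSemisimilarityPair (⇑Q) (1 : GL ι F) σ) :
    Nat.card ↥(Cfsg.gammaPOmega F (⇑Q)) =
      Nat.card (RingAut F) * Nat.card ↥(Cfsg.pgoAut F (⇑Q)) := by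
  have hsurj : Function.Surjective (fieldPartG Q hQ h7) := fun σ =>
    ⟨fieldSectionG Q hσ σ, fieldPartG_fieldSectionG Q hQ h7 hσ σ⟩
  rw [Subgroup.card_eq_card_quotient_mul_card_subgroup (fieldPartG Q hQ h7).ker,
    Nat.card_congr (QuotientGroup.quotientKerEquivOfSurjective _ hsurj).toEquiv,
    ker_fieldPartG Q hQ h7,
    Nat.card_congr (Subgroup.subgroupOfEquivOfLe (pgoAut_le_gamma Q)).toEquiv]

end mat

end Cfsg.Agent.Lib.Helper36.Tri
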