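import Mathlib
import Cfsg.Agent.Lib.Helper36.Tri.OutPlusTwo
import Cfsg.Agent.Lib.Helper36.AutO.OutMinusOdd

/-!
# The graph automorphism of `PΩ⁺_{2m}(F)` induced by a coordinate swap (a reflection with
entries in the prime field): it commutes with the coordinate field automorphisms.
-/

set_option autoImplicit false
set_option linter.unusedSimpArgs false
set_option linter.unusedVariables false
set_option linter.unusedSectionVars false

namespace Cfsg.Agent.Lib.Helper36.Tri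

open Cfsg.Agent.Lib.Helper13 hiding isoGroup mem_isoGroup
open Cfsg.Agent.Lib.Helper36 Cfsg.Agent.Lib.Helper44 Cfsg.Agent.Lib.Helper36.AutO Module Matrix

variable {F : Type*} [Field F]

/-- the swap of the first hyperbolic pair -/
def swp (m : ℕ) (hm : 0 < m) : Equiv.Perm (Fin m ⊕ Fin m) :=
  Equiv.swap (Sum.inl ⟨0, hm⟩) (Sum.inr ⟨0, hm⟩)

theorem swp_mul_self (m : ℕ) (hm : 0 < m) : swp m hm * swp m hm = 1 :=
  Equiv.swap_mul_self _ _

/-- the permutation matrix of the swap -/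
noncomputable def swapGL (m : ℕ) (hm : 0 < m) (F : Type*) [Field F] : GL (Fin m ⊕ Fin m) F :=
  ⟨(swp m hm).permMatrix F, (swp m hm).permMatrix F,
    by rw [← Matrix.permMatrix_mul, swp_mul_self, Matrix.permMatrix_one],
    by rw [← Matrix.permMatrix_mul, swp_mul_self, Matrix.permMatrix_one]⟩

theorem swapGL_coe (m : ℕ) (hm : 0 < m) :
    ((swapGL m hm F : GL (Fin m ⊕ Fin m) F) : Matrix (Fin m ⊕ Fin m) (Fin m ⊕ Fin m) F) =
      (swp m hm).permMatrix F := rfl

theorem swapGL_mul_self (m : ℕ) (hm : 0 < m) : swapGL m hm F * swapGL m hm F = 1 := by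
  apply Units.ext
  rw [Units.val_mul, swapGL_coe, ← Matrix.permMatrix_mul, swp_mul_self, Matrix.permMatrix_one,
    Units.val_one]

theorem swapGL_mulVec (m : ℕ) (hm : 0 < m) (v : Fin m ⊕ Fin m → F) :
    ((swapGL m hm F : GL (Fin m ⊕ Fin m) F) : Matrix (Fin m ⊕ Fin m) (Fin m ⊕ Fin m) F) *ᵥ v =
      v ∘ swp m hm := by
  rw [swapGL_coe, Matrix.permMatrix_mulVec]

theorem quadFormPlus_comp_swp (m : ℕ) (hm : 0 < m) (v : Fin m ⊕ Fin m → F) :
    Cfsg.quadFormPlus m F (v ∘ swp m hm) = Cfsg.quadFormPlus m F v := by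
  unfold Cfsg.quadFormPlus
  apply Finset.sum_congr rfl
  intro i _
  by_cases hi : i = ⟨0, hm⟩
  · subst hi
    simp only [Function.comp_apply, swp, Equiv.swap_apply_left, Equiv.swap_apply_right]
    ring
  · have h1 : swp m hm (Sum.inl i) = Sum.inl i := by
      unfold swp
      apply Equiv.swap_apply_of_ne_of_ne
      · intro h; exact hi (Sum.inl.inj h)
      · intro h; cases h
    have h2 : swp m hm (Sum.inr i) = Sum.inr i := by
      unfold swp
      apply Equiv.swap_apply_of_ne_of_ne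
      · intro h; cases h
      · intro h; exact hi (Sum.inr.inj h)
    simp only [Function.comp_apply, h1, h2]

theorem swapGL_mem (m : ℕ) (hm : 0 < m) :
    swapGL m hm F ∈ Cfsg.isometryGroup F (⇑(hypQF m F)) := by
  rw [mem_isometryGroup_iff']
  intro v
  rw [swapGL_mulVec, hypQF_apply, hypQF_apply, quadFormPlus_comp_swp]

theorem det_swapGL (m : ℕ) (hm : 0 < m) :
    ((swapGL m hm F : GL (Fin m ⊕ Fin m) F) : Matrix (Fin m ⊕ Fin m) (Fin m ⊕ Fin m) F).det =
      -1 := by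
  rw [swapGL_coe, Matrix.det_permutation]
  have h : (Sum.inl ⟨0, hm⟩ : Fin m ⊕ Fin m) ≠ Sum.inr ⟨0, hm⟩ := by intro h; cases h
  unfold swp
  rw [Equiv.Perm.sign_swap h]
  simp

theorem glMap_swapGL (m : ℕ) (hm : 0 < m) (σ : F ≃+* F) :
    glMap σ (swapGL m hm F) = swapGL m hm F := by
  apply Units.ext
  rw [glMap_coe, swapGL_coe]
  ext i j
  rw [Matrix.map_apply]
  show σ ((swp m hm).toPEquiv.toMatrix i j) = (swp m hm).toPEquiv.toMatrix i j
  rw [PEquiv.toMatrix_apply]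
  split_ifs
  · exact map_one σ
  · exact map_zero σ

variable [Fintype F]

/-- MODULE [C-REFL] -/
theorem exists_graph_refl' (h2 : (2 : F) ≠ 0) (m : ℕ) (hm : 4 ≤ m) :
    ∃ γ : MulAut (Cfsg.POmega F (⇑(hypQF m F))),
      γ ∈ Cfsg.pgoAut F (⇑(hypQF m F)) ∧ γ ∉ Cfsg.psoAut F (⇑(hypQF m F)) ∧
      γ * γ = 1 ∧
      ∀ σ : F ≃+* F, pairAut (⇑(hypQF m F)) 1 σ (hypQF_pair_one m σ) * γ =
        γ * pairAut (⇑(hypQF m F)) 1 σ (hypQF_pair_one m σ) := by
  classical
  have hm0 : 0 < m := by omega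
  have hcard : Fintype.card (Fin m ⊕ Fin m) = 2 * m := by
    rw [Fintype.card_sum, Fintype.card_fin]; ring
  set Q := hypQF m F with hQdef
  set g : ↥(Cfsg.Geo.quadSimilarityGroup (⇑Q)) :=
    ⟨swapGL m hm0 F, isometryGroup_le_similarity (⇑Q) (swapGL_mem m hm0)⟩ with hg
  refine ⟨simAut (⇑Q) g, ?_, ?_, ?_, ?_⟩
  · rw [pgoAut_eq]
    exact ⟨g, rfl⟩
  · exact simAut_not_mem_psoAut_of_det Q hypQF_nondeg h2 (by rw [hcard]; omega) m hcard
      (swapGL m hm0 F) (swapGL_mem m hm0) (det_swapGL m hm0)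
  · rw [← map_mul]
    have : g * g = 1 := by
      apply Subtype.ext
      exact swapGL_mul_self m hm0
    rw [this, map_one]
  · intro σ
    have h := conj_simAut (⇑Q) 1 σ (hypQF_pair_one m σ)
      (pairAut (⇑Q) 1 σ (hypQF_pair_one m σ))
      (isInduced_pairAut (⇑Q) 1 σ (hypQF_pair_one m σ)) g g (by
        show swapGL m hm0 F = 1 * glMap σ (swapGL m hm0 F) * 1⁻¹
        rw [glMap_swapGL, one_mul, inv_one, mul_one])
    rw [mul_inv_eq_iff_eq_mul] at h
    exact h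

theorem exists_graph_refl (h2 : (2 : F) ≠ 0) (m : ℕ) (hm : 4 ≤ m) :
    ∃ γ : MulAut (Cfsg.POmega F (Cfsg.quadFormPlus m F)),
      γ ∈ Cfsg.pgoAut F (Cfsg.quadFormPlus m F) ∧ γ ∉ Cfsg.psoAut F (Cfsg.quadFormPlus m F) ∧
      γ * γ = 1 ∧
      ∀ σ : F ≃+* F, pairAut (Cfsg.quadFormPlus m F) 1 σ (hypQF_pair_one m σ) * γ =
        γ * pairAut (Cfsg.quadFormPlus m F) 1 σ (hypQF_pair_one m σ) :=
  exists_graph_refl' h2 m hm

end Cfsg.Agent.Lib.Helper36.Tri
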