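import Mathlib
import Cfsg.Agent.Lib.Helper36.Tri.GraphRefl
import Cfsg.Agent.Lib.Helper36.Tri.TauOut
import Cfsg.Agent.Lib.Helper36.InndiagPlus3
import Cfsg.Agent.Lib.Helper44.TriEps
import Cfsg.Agent.Lib.Helper12.TriFrob

/-!
# Octonion conjugation as an automorphism of `PΩ⁺₈(F)`: an involution outside `Inndiag`
commuting with the coordinate field automorphisms (module [C4-GAMMA])
-/

set_option autoImplicit false
set_option linter.unusedSimpArgs false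
set_option linter.unusedVariables false
set_option linter.unusedSectionVars false

namespace Cfsg.Agent.Lib.Helper36.Tri

open Cfsg.Agent.Lib.Helper13 hiding isoGroup mem_isoGroup
open Cfsg.Agent.Lib.Helper36 Cfsg.Agent.Lib.Helper44 Cfsg.Agent.Lib.Helper36.AutO Module Matrix
open Cfsg.Agent.Lib.Helper44.TriEps Cfsg.Agent.Lib.Helper12.Tri Cfsg.Agent.S2168

variable {F : Type*} [Field F] [Fintype F]

/-- the signs of octonion conjugation -/
def dK (F : Type*) [Field F] : Fin 4 ⊕ Fin 4 → F := Sum.elim ![1, -1, -1, -1] ![1, -1, -1, -1]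

theorem gK_eq_swap_mul_diag :
    ((gK F : GL (Fin 4 ⊕ Fin 4) F) : Matrix (Fin 4 ⊕ Fin 4) (Fin 4 ⊕ Fin 4) F) =
      (swp 4 (by norm_num)).permMatrix F * Matrix.diagonal (dK F) := by
  rw [Matrix.ext_iff_mulVec]
  intro v
  rw [gK_mulVec, ← Matrix.mulVec_mulVec, Matrix.permMatrix_mulVec]
  funext i
  rw [Function.comp_apply, Matrix.mulVec_diagonal]
  rcases i with i | i <;> fin_cases i <;>
    simp [oconj, dK, swp, Equiv.swap_apply_def]

theorem det_gK :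
    ((gK F : GL (Fin 4 ⊕ Fin 4) F) : Matrix (Fin 4 ⊕ Fin 4) (Fin 4 ⊕ Fin 4) F).det = -1 := by
  rw [gK_eq_swap_mul_diag, Matrix.det_mul, Matrix.det_diagonal, Matrix.det_permutation]
  have h : (Sum.inl ⟨0, by norm_num⟩ : Fin 4 ⊕ Fin 4) ≠ Sum.inr ⟨0, by norm_num⟩ := by
    intro h; cases h
  unfold swp
  rw [Equiv.Perm.sign_swap h, Fintype.prod_sum_type, Fin.prod_univ_four, Fin.prod_univ_four]
  simp [dK]

theorem epsR_epsR (t : ↥(RT' F)) : epsR (epsR t) = t :=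
  Subtype.ext (epsM_epsM t.1)

theorem frobTriple_epsM (σ : F ≃+* F) (t : GLO F × GLO F × GLO F) :
    frobTriple σ (epsM t) = epsM (frobTriple σ t) := by
  rw [epsM_apply, epsM_apply, frobTriple_apply, frobTriple_apply]
  simp only [hatM_frobConj]

theorem frobR_epsR (σ : F ≃+* F) (t : ↥(RT' F)) : frobR σ (epsR t) = epsR (frobR σ t) := by
  apply Subtype.ext
  rw [frobR_coe, epsR_coe, epsR_coe, frobR_coe, frobTriple_epsM]

theorem gammaK_mul_self : gammaK F * gammaK F = 1 := by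
  apply MulEquiv.ext
  intro y
  obtain ⟨t, rfl⟩ := psi_surjective (MO F) y
  rw [MulAut.mul_apply, gammaK_psi, gammaK_psi, epsR_epsR]
  rfl

theorem gammaK_comm_frob (σ : F ≃+* F) :
    pairAut (⇑(QO F)) 1 σ (hypQF_pair_one 4 σ) * gammaK F =
      gammaK F * pairAut (⇑(QO F)) 1 σ (hypQF_pair_one 4 σ) := by
  apply MulEquiv.ext
  intro y
  obtain ⟨t, rfl⟩ := psi_surjective (MO F) y
  rw [MulAut.mul_apply, MulAut.mul_apply, gammaK_psi, pairAut_psi, pairAut_psi, gammaK_psi,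
    frobR_epsR]

theorem gammaK_not_mem_inndiag (h2 : (2 : F) ≠ 0) :
    (gammaK F : MulAut (Cfsg.POmega F (Cfsg.quadFormPlus 4 F))) ∉
      Cfsg.inndiagPOmegaPlus 4 F := by
  classical
  intro hmem
  have hQ := plusQF_nondeg 4 F
  have hcard : Fintype.card (Fin 4 ⊕ Fin 4) = 2 * 4 := card_plus_index
  have hdim : 5 ≤ Fintype.card (Fin 4 ⊕ Fin 4) := by rw [hcard]; norm_num
  have hdim' : 2 ≤ finrank F (Fin 4 ⊕ Fin 4 → F) := by
    rw [Module.finrank_fintype_fun_eq_card, hcard]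
    norm_num
  obtain ⟨v₀, hv₀'⟩ := exists_Q_eq (plusQF 4 F) hQ h2 hdim' 1 one_ne_zero
  have hv₀ : plusQF 4 F v₀ ≠ 0 := by rw [hv₀']; exact one_ne_zero
  have hgKmem : gK F ∈ Cfsg.Geo.quadSimilarityGroup (⇑(plusQF 4 F)) := gK_mem
  set gKe : ↥(Cfsg.Geo.quadSimilarityGroup (⇑(plusQF 4 F))) := ⟨gK F, hgKmem⟩ with hgKe
  have hmem' : simAut (⇑(plusQF 4 F)) gKe ∈ inndiagPlusQ 4 F := hmem
  rw [inndiag_eq h2 v₀ hv₀] at hmem'
  obtain ⟨g', hg', hgg'⟩ := hmem'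
  have h1 : simAut (⇑(plusQF 4 F)) (g'⁻¹ * gKe) = 1 := by
    rw [map_mul, map_inv, hgg', inv_mul_cancel]
  have h3 := psi_eq_one_of_simAut_eq_one (plusQF 4 F) v₀ hv₀ 4 hQ h2 hcard hdim _ h1
  have h4 := ((Cfsg.Agent.Lib.Helper36.psi_eq_one_iff (plusQF 4 F) v₀ hv₀ 4 hQ h2 hcard _).mp h3).2
  rw [map_mul, map_inv, (MonoidHom.mem_ker).mp hg', inv_one, one_mul, psi2_eq_one_iff,
    deltaHom_apply] at h4
  have hmult : mult (plusQF 4 F) v₀ hv₀ gKe = 1 := by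
    apply mult_eq
    intro v
    rw [Units.val_one, one_mul]
    show plusQF 4 F (((gK F : GL (Fin 4 ⊕ Fin 4) F) : Matrix _ _ F) *ᵥ v) = _
    rw [gK_mulVec]
    exact onorm_oconj v
  rw [hmult, one_pow, inv_one, mul_one] at h4
  have h5 : ((Matrix.GeneralLinearGroup.det (gK F) : Fˣ) : F) = -1 := by
    rw [Matrix.GeneralLinearGroup.val_det_apply]
    exact det_gK
  have h4' : Matrix.GeneralLinearGroup.det (gK F) = 1 := h4
  have h6 : ((Matrix.GeneralLinearGroup.det (gK F) : Fˣ) : F) = 1 := by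
    rw [h4', Units.val_one]
  rw [h5] at h6
  apply h2
  have : (2 : F) = 1 - (-1) := by ring
  rw [this, h6]
  ring

/-- MODULE [C4-GAMMA] -/
theorem gammaK_facts (h2 : (2 : F) ≠ 0) :
    (gammaK F : MulAut (Cfsg.POmega F (Cfsg.quadFormPlus 4 F))) ∉
      Cfsg.inndiagPOmegaPlus 4 F ∧
    gammaK F * gammaK F = 1 ∧
    ∀ σ : F ≃+* F, pairAut (⇑(QO F)) 1 σ (hypQF_pair_one 4 σ) * gammaK F =
      gammaK F * pairAut (⇑(QO F)) 1 σ (hypQF_pair_one 4 σ) :=
  ⟨gammaK_not_mem_inndiag h2, gammaK_mul_self, gammaK_comm_frob⟩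

end Cfsg.Agent.Lib.Helper36.Tri
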