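import Mathlib
import Cfsg.Agent.Lib.Helper36.InndiagPlus3
import Cfsg.Agent.Lib.Helper36.PgoInn
import Cfsg.Agent.S2724
import Cfsg.Agent.S2725

/-!
# Index bookkeeping for `Inn ≤ Inndiag ≤ PGO` in `Aut PΩ⁺₈(q)`, `q` odd
-/

set_option autoImplicit false
set_option linter.unusedSimpArgs false
set_option linter.unusedVariables false
set_option linter.unusedSectionVars false

namespace Cfsg.Agent.Lib.Helper36.Tri

open Cfsg.Agent.Lib.Helper13 hiding isoGroup mem_isoGroup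
open Cfsg.Agent.Lib.Helper36 Cfsg.Agent.Lib.Helper44 Module Matrix
open Cfsg.Agent.S2168

/-- the relative index read off from a surjection with prescribed kernel -/
theorem relIndex_eq_card_of_hom {A E : Type*} [Group A] [Group E] (N K : Subgroup A)
    (φ : ↥K →* E) (hφs : Function.Surjective φ) (hφk : φ.ker = N.subgroupOf K) :
    N.relIndex K = Nat.card E := by
  unfold Subgroup.relIndex
  rw [← hφk, Subgroup.index_ker, MonoidHom.range_eq_top.mpr hφs]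
  exact Nat.card_congr Subgroup.topEquiv.toEquiv

variable {F : Type*} [Field F] [Fintype F]

/-- MODULE [C4-IDX] -/
theorem inndiag8_facts (hodd : Odd (Fintype.card F)) :
    Cfsg.Inn (Cfsg.POmega F (Cfsg.quadFormPlus 4 F)) ≤ Cfsg.inndiagPOmegaPlus 4 F ∧
    Cfsg.inndiagPOmegaPlus 4 F ≤ Cfsg.pgoAut F (Cfsg.quadFormPlus 4 F) ∧
    (Cfsg.Inn (Cfsg.POmega F (Cfsg.quadFormPlus 4 F))).relIndex (Cfsg.inndiagPOmegaPlus 4 F) = 4 ∧
    (∀ x ∈ Cfsg.inndiagPOmegaPlus 4 F, x * x ∈ Cfsg.Inn (Cfsg.POmega F (Cfsg.quadFormPlus 4 F))) ∧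
    (Cfsg.inndiagPOmegaPlus 4 F).relIndex (Cfsg.pgoAut F (Cfsg.quadFormPlus 4 F)) = 2 := by
  classical
  have h2 : (2 : F) ≠ 0 := Cfsg.Agent.Lib.Helper13.two_ne_zero_of_odd_card hodd
  have h24 := (Cfsg.Agent.S2724.result hodd (m := 4) le_rfl).2 (by
    rintro ⟨h, _⟩
    exact absurd h (by decide))
  have h25 := (Cfsg.Agent.S2725.result hodd (m := 4) le_rfl).2.2 (by decide)
  obtain ⟨φ8, hφ8s, hφ8k⟩ := h24
  obtain ⟨φ4, hφ4s, hφ4k⟩ := h25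
  have hdim' : 2 ≤ finrank F (Fin 4 ⊕ Fin 4 → F) := by
    rw [Module.finrank_fintype_fun_eq_card, Fintype.card_sum, Fintype.card_fin]
    norm_num
  obtain ⟨v₀, hv₀'⟩ := exists_Q_eq (plusQF 4 F) (plusQF_nondeg 4 F) h2 hdim' 1 one_ne_zero
  have hv₀ : plusQF 4 F v₀ ≠ 0 := by rw [hv₀']; exact one_ne_zero
  have hNI : Cfsg.Inn (Cfsg.POmega F (Cfsg.quadFormPlus 4 F)) ≤ Cfsg.inndiagPOmegaPlus 4 F :=
    le_trans (Inn_le_psoAut (⇑(plusQF 4 F))) (psoAut_le_inndiag h2 v₀ hv₀)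
  have hIK : Cfsg.inndiagPOmegaPlus 4 F ≤ Cfsg.pgoAut F (Cfsg.quadFormPlus 4 F) := by
    have h := inndiag_eq h2 v₀ hv₀
    rw [inndiagPlusQ_eq] at h
    rw [h]
    change _ ≤ Cfsg.pgoAut F (⇑(plusQF 4 F))
    rw [pgoAut_eq]
    rintro _ ⟨g, _, rfl⟩
    exact ⟨g, rfl⟩
  have h4 : (Cfsg.Inn (Cfsg.POmega F (Cfsg.quadFormPlus 4 F))).relIndex
      (Cfsg.inndiagPOmegaPlus 4 F) = 4 := by
    rw [relIndex_eq_card_of_hom _ _ φ4 hφ4s hφ4k]
    rw [Nat.card_eq_fintype_card]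
    rfl
  have h8 : (Cfsg.Inn (Cfsg.POmega F (Cfsg.quadFormPlus 4 F))).relIndex
      (Cfsg.pgoAut F (Cfsg.quadFormPlus 4 F)) = 8 := by
    rw [relIndex_eq_card_of_hom _ _ φ8 hφ8s hφ8k, DihedralGroup.nat_card]
  refine ⟨hNI, hIK, h4, ?_, ?_⟩
  · intro x hx
    have hmem : (⟨x, hx⟩ * ⟨x, hx⟩ : ↥(Cfsg.inndiagPOmegaPlus 4 F)) ∈ φ4.ker := by
      rw [MonoidHom.mem_ker, map_mul]
      generalize φ4 ⟨x, hx⟩ = y
      revert y
      decide
    rw [hφ4k, Subgroup.mem_subgroupOf] at hmem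
    exact hmem
  · have hmul := Subgroup.relIndex_mul_relIndex _ _ _ hNI hIK
    rw [h4, h8] at hmul
    omega

end Cfsg.Agent.Lib.Helper36.Tri
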