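import Mathlib
import Cfsg.Agent.Lib.Helper36.Tri.TauOut
import Cfsg.Agent.Lib.Helper36.Tri.OutPlusTwo
import Cfsg.Agent.Lib.Helper94.TriS3C
import Cfsg.Agent.Lib.Helper44.TriEps
import Cfsg.Agent.Lib.Helper12.TriFrob

set_option autoImplicit false

namespace Cfsg.Agent.Lib.Helper36.Tri

open Cfsg.Agent.Lib.Helper13 hiding isoGroup mem_isoGroup
open Cfsg.Agent.Lib.Helper36 Cfsg.Agent.Lib.Helper44 Cfsg.Agent.Lib.Helper36.AutO Module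

-- [S3C]
theorem out_equiv_S3_prod {A C : Type*} [Group A] [Finite A] [Group C] (N : Subgroup A) [N.Normal]
    (Γs : Subgroup A) (hidx : Γs.index = 3) (hN : N ≤ Γs)
    (fp : ↥Γs →* C) (s : C →* ↥Γs) (hs : ∀ c, fp (s c) = c)
    (hNk : N.subgroupOf Γs ≤ fp.ker) (hrel : (N.subgroupOf Γs).relIndex fp.ker = 2)
    (τ : A) (hτ3 : τ * τ * τ = 1) (hτ : τ ∉ Γs)
    (γ : ↥Γs) (hγk : γ ∈ fp.ker) (hγτ : (γ : A) * τ * (γ : A)⁻¹ = τ⁻¹)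
    (hsτ : ∀ c, ((s c : ↥Γs) : A) * τ = τ * ((s c : ↥Γs) : A)) :
    Nonempty (A ⧸ N ≃* Equiv.Perm (Fin 3) × C) :=
  Cfsg.Agent.Lib.Helper94.TriS3C.out_equiv_S3_prod N Γs hidx hN fp s hs hNk hrel τ hτ3 hτ γ hγk hγτ hsτ

variable {F : Type*} [Field F] [Fintype F]

-- [EPS]
theorem exists_gamma_mat : ∃ γ : MulAut (Cfsg.POmega F (⇑(QO F))), γ ∈ Cfsg.pgoAut F (⇑(QO F)) ∧
    ∀ τ : MulAut (Cfsg.POmega F (⇑(QO F))),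
      (∀ t : ↥(RT' F), τ (psi (MO F) t) = psi (MO F) (thetaR t)) → γ * τ * γ⁻¹ = τ⁻¹ :=
  Cfsg.Agent.Lib.Helper44.TriEps.exists_gamma_mat

-- [FROB]
theorem frob_comm_tau (σ : F ≃+* F) (τ : MulAut (Cfsg.POmega F (⇑(QO F))))
    (hτ : ∀ t : ↥(RT' F), τ (psi (MO F) t) = psi (MO F) (thetaR t)) :
    pairAut (⇑(QO F)) 1 σ (hypQF_pair_one 4 σ) * τ =
      τ * pairAut (⇑(QO F)) 1 σ (hypQF_pair_one 4 σ) :=
  Cfsg.Agent.Lib.Helper12.Tri.frob_comm_tau σ τ hτ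

end Cfsg.Agent.Lib.Helper36.Tri
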