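import Mathlib
import Cfsg.Agent.Lib.Helper36.Tri.TauOut
import Cfsg.Agent.Lib.Helper36.Tri.OutPlusTwo
import Cfsg.Agent.Lib.Helper36.Tri.FieldPartG
import Cfsg.Agent.Lib.Helper44.TriEps
import Cfsg.Agent.Lib.Helper36.InndiagPlus3
import Cfsg.Agent.Lib.Helper36.AutO.OutMinusOdd
import Cfsg.Agent.Lib.Helper36.Tri.AutCard8
import Cfsg.Agent.Lib.Helper12.TriAB1
import Cfsg.Agent.Lib.Helper12.TriAB4
import Cfsg.Agent.Lib.Helper37.TriNormE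
import Cfsg.Agent.Lib.Helper94.TriS4C
import Cfsg.Agent.Lib.Helper36.Tri.GraphRefl
import Cfsg.Agent.Lib.Helper36.Tri.Inndiag8Idx
import Cfsg.Agent.Lib.Helper36.Tri.GammaKFacts

/-!
# Module statements used by S2608 (re-exports of the team's TRI8 part 3 modules)
-/

set_option autoImplicit false

namespace Cfsg.Agent.Lib.Helper36.Tri

open Cfsg.Agent.Lib.Helper13 hiding isoGroup mem_isoGroup
open Cfsg.Agent.Lib.Helper36 Cfsg.Agent.Lib.Helper44 Cfsg.Agent.Lib.Helper36.AutO Module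

-- [AB1]
theorem out_equiv_of_section_central {A C E : Type*} [Group A] [Group C] [Group E]
    (N : Subgroup A) [N.Normal]
    (fp : A →* C) (s : C →* A) (hs : ∀ c, fp (s c) = c) (K : Subgroup A) (hK : fp.ker = K)
    (hN : N ≤ K)
    (φ : ↥K →* E) (hφs : Function.Surjective φ) (hφk : φ.ker = N.subgroupOf K)
    (hcent : ∀ (c : C) (k : A), k ∈ K → s c * k * (s c)⁻¹ * k⁻¹ ∈ N) :
    Nonempty (A ⧸ N ≃* E × C) :=
  Cfsg.Agent.Lib.Helper12.Tri.out_equiv_of_section_central N fp s hs K hK hN φ hφs hφk hcent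

-- [AB4]
theorem out_equiv_dihedral_of_section {A C : Type*} [Group A] [Finite A] [Group C]
    (N : Subgroup A) [N.Normal]
    (fp : A →* C) (s : C →* A) (hs : ∀ c, fp (s c) = c) (K : Subgroup A) (hK : fp.ker = K)
    (hN : N ≤ K)
    (φ : ↥K →* DihedralGroup 4) (hφs : Function.Surjective φ) (hφk : φ.ker = N.subgroupOf K)
    (P : Subgroup A) (hNP : N ≤ P) (hPK : P ≤ K) (hrel : N.relIndex P = 2)
    (hcomm : ∀ (a k : A), k ∈ K → a * k * a⁻¹ * k⁻¹ ∈ P)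
    (γ : A) (hγK : γ ∈ K) (hγP : γ ∉ P) (hγ2 : γ * γ = 1) (hγs : ∀ c, s c * γ = γ * s c)
    (f : ℕ) (eC : C ≃* Multiplicative (ZMod f)) :
    Nonempty (A ⧸ N ≃* DihedralGroup 4 × Multiplicative (ZMod f)) :=
  Cfsg.Agent.Lib.Helper12.Tri.out_equiv_dihedral_of_section N fp s hs K hK hN φ hφs hφk P hNP hPK
    hrel hcomm γ hγK hγP hγ2 hγs f eC

-- [AB5]
theorem out_equiv_S4_prod {A C : Type*} [Group A] [Finite A] [Group C] (N : Subgroup A) [N.Normal]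
    (Γs : Subgroup A) (hidx : Γs.index = 3)
    (fp : ↥Γs →* C) (s : C →* ↥Γs) (hs : ∀ c, fp (s c) = c)
    (I : Subgroup A) [I.Normal] (hNI : N ≤ I) (hIΓ : I ≤ Γs) (hIk : I.subgroupOf Γs ≤ fp.ker)
    (hrelNI : N.relIndex I = 4) (hexp : ∀ x ∈ I, x * x ∈ N)
    (hrelIK : (I.subgroupOf Γs).relIndex fp.ker = 2)
    (τ : A) (hτ3 : τ * τ * τ = 1) (hτ : τ ∉ Γs)
    (γ : ↥Γs) (hγk : γ ∈ fp.ker) (hγI : (γ : A) ∉ I) (hγ2 : (γ : A) * (γ : A) = 1)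
    (hγτ : (γ : A) * τ * (γ : A)⁻¹ = τ⁻¹)
    (hsτ : ∀ c, ((s c : ↥Γs) : A) * τ = τ * ((s c : ↥Γs) : A))
    (hsγ : ∀ c, ((s c : ↥Γs) : A) * (γ : A) = (γ : A) * ((s c : ↥Γs) : A))
    (hτI : ∃ x ∈ I, τ * x * τ⁻¹ * x⁻¹ ∉ N) :
    Nonempty (A ⧸ N ≃* Equiv.Perm (Fin 4) × C) :=
  Cfsg.Agent.Lib.Helper94.TriS4C.out_equiv_S4_prod N Γs hidx fp s hs I hNI hIΓ hIk hrelNI hexp
    hrelIK τ hτ3 hτ γ hγk hγI hγ2 hγτ hsτ hsγ hτI

variable {F : Type*} [Field F] [Fintype F]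

-- [N4] (helper37)
theorem inndiag8_normal (hodd : Odd (Fintype.card F)) : (Cfsg.inndiagPOmegaPlus 4 F).Normal :=
  Cfsg.Agent.Lib.Helper37.Tri.inndiag8_normal_of_index hodd index_gamma_eq_three

-- [T3] (helper37)
theorem tau_moves_inndiag (hodd : Odd (Fintype.card F))
    (τ : MulAut (Cfsg.POmega F (Cfsg.quadFormPlus 4 F)))
    (hτ : ∀ t : ↥(RT' F), τ (psi (MO F) t) = psi (MO F) (thetaR t)) :
    ∃ x ∈ Cfsg.inndiagPOmegaPlus 4 F,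
      τ * x * τ⁻¹ * x⁻¹ ∉ Cfsg.Inn (Cfsg.POmega F (Cfsg.quadFormPlus 4 F)) :=
  Cfsg.Agent.Lib.Helper37.Tri.tau_moves_inndiag hodd τ hτ

end Cfsg.Agent.Lib.Helper36.Tri
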