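import Mathlib
import Cfsg.Agent.Lib.Helper36.Tri.OutFacts
import Cfsg.Agent.Lib.Helper36.Tri.OutFacts2
import Cfsg.Agent.Lib.Helper36.Tri.AutCard8
import Cfsg.Agent.Lib.Helper36.AutO.OutMinusOdd2

set_option autoImplicit false
set_option linter.unusedSimpArgs false
set_option linter.unusedVariables false
set_option linter.unusedSectionVars false

/-!
# `Out PΩ⁺₈(q)` for odd `q`: `S₄ × C_f`
-/

namespace Cfsg.Agent.Lib.Helper36.Tri

open Cfsg.Agent.Lib.Helper13 hiding isoGroup mem_isoGroup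
open Cfsg.Agent.Lib.Helper36 Cfsg.Agent.Lib.Helper44 Cfsg.Agent.Lib.Helper36.AutO Module Matrix
open Cfsg.Agent.Lib.Helper44.TriEps

/-- octonion conjugation inverts triality -/
theorem gammaK_conj_tau {F : Type*} [Field F] [Fintype F]
    (τ : MulAut (Cfsg.POmega F (⇑(QO F))))
    (hτ : ∀ t : ↥(RT' F), τ (psi (MO F) t) = psi (MO F) (thetaR t)) :
    gammaK F * τ * (gammaK F)⁻¹ = τ⁻¹ := by
  have key : τ * gammaK F * τ = gammaK F := by
    apply MulEquiv.ext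
    intro y
    obtain ⟨t, rfl⟩ := psi_surjective (MO F) y
    rw [MulAut.mul_apply, MulAut.mul_apply, hτ, gammaK_psi, hτ, thetaR_epsR_thetaR, gammaK_psi]
  calc gammaK F * τ * (gammaK F)⁻¹ = τ⁻¹ * (τ * gammaK F * τ) * (gammaK F)⁻¹ := by group
    _ = τ⁻¹ := by rw [key]; group

/-- `Inndiag PΩ⁺₈(F)`, retyped over the form `⇑(QO F)` -/
def inndiag8 (F : Type*) [Field F] [Fintype F] : Subgroup (MulAut (Cfsg.POmega F (⇑(QO F)))) :=
  Cfsg.inndiagPOmegaPlus 4 F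

theorem inndiag8_facts' {F : Type*} [Field F] [Fintype F] (hodd : Odd (Fintype.card F)) :
    Cfsg.Inn (Cfsg.POmega F (⇑(QO F))) ≤ inndiag8 F ∧
    inndiag8 F ≤ Cfsg.pgoAut F (⇑(QO F)) ∧
    (Cfsg.Inn (Cfsg.POmega F (⇑(QO F)))).relIndex (inndiag8 F) = 4 ∧
    (∀ x ∈ inndiag8 F, x * x ∈ Cfsg.Inn (Cfsg.POmega F (⇑(QO F)))) ∧
    (inndiag8 F).relIndex (Cfsg.pgoAut F (⇑(QO F))) = 2 :=
  inndiag8_facts hodd

theorem inndiag8_normal' {F : Type*} [Field F] [Fintype F] (hodd : Odd (Fintype.card F)) :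
    (inndiag8 F).Normal := inndiag8_normal hodd

theorem gammaK_facts' {F : Type*} [Field F] [Fintype F] (h2 : (2 : F) ≠ 0) :
    gammaK F ∉ inndiag8 F ∧ gammaK F * gammaK F = 1 ∧
    ∀ σ : F ≃+* F, pairAut (⇑(QO F)) 1 σ (hypQF_pair_one 4 σ) * gammaK F =
      gammaK F * pairAut (⇑(QO F)) 1 σ (hypQF_pair_one 4 σ) := gammaK_facts h2

theorem tau_moves_inndiag' {F : Type*} [Field F] [Fintype F] (hodd : Odd (Fintype.card F))
    (τ : MulAut (Cfsg.POmega F (⇑(QO F))))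
    (hτ : ∀ t : ↥(RT' F), τ (psi (MO F) t) = psi (MO F) (thetaR t)) :
    ∃ x ∈ inndiag8 F, τ * x * τ⁻¹ * x⁻¹ ∉ Cfsg.Inn (Cfsg.POmega F (⇑(QO F))) :=
  tau_moves_inndiag hodd τ hτ

set_option maxHeartbeats 1600000 in
theorem out_plus8_odd {F : Type*} [Field F] [Fintype F] {p f : ℕ} [Fact p.Prime]
    (hf : 1 ≤ f) (hF : Fintype.card F = p ^ f) (hp : p ≠ 2) :
    Nonempty (Cfsg.Out (Cfsg.POmega F (Cfsg.quadFormPlus 4 F)) ≃*
      Equiv.Perm (Fin 4) × Multiplicative (ZMod f)) := by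
  classical
  have hchar : CharP F p := charP_of_card_pow hf hF
  have hpodd : Odd p := (Fact.out : p.Prime).odd_of_ne_two hp
  have hoddF : Odd (Fintype.card F) := by rw [hF]; exact hpodd.pow
  have h2 : (2 : F) ≠ 0 := two_ne_zero_of_char p hp
  have hcard : Fintype.card (Fin 4 ⊕ Fin 4) = 8 := by
    rw [Fintype.card_sum, Fintype.card_fin]
  have h7 : 7 ≤ Fintype.card (Fin 4 ⊕ Fin 4) := by rw [hcard]; norm_num
  have hQ : (QuadraticMap.polarBilin (QO F)).Nondegenerate := QO_nondeg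
  -- the module facts, retyped over `⇑(QO F)`
  obtain ⟨hNI, hIK, hrelNI, hexp, hrelIK0⟩ := inndiag8_facts' hoddF
  have hInorm : (inndiag8 F).Normal := inndiag8_normal' hoddF
  obtain ⟨hγI, hγ2, hγs⟩ := gammaK_facts' h2
  have hidx : (Cfsg.gammaPOmega F (⇑(QO F))).index = 3 := index_gamma_eq_three (F := F)
  change Nonempty (Cfsg.Out (Cfsg.POmega F (⇑(QO F))) ≃* _)
  have hσ : ∀ σ : F ≃+* F, Cfsg.IsSemisimilarityPair (⇑(QO F)) (1 : GL (Fin 4 ⊕ Fin 4) F) σ :=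
    fun σ => hypQF_pair_one 4 σ
  have hfinA : Finite (MulAut (Cfsg.POmega F (⇑(QO F)))) :=
    Finite.of_injective (fun e : MulAut (Cfsg.POmega F (⇑(QO F))) =>
      (e : Cfsg.POmega F (⇑(QO F)) → Cfsg.POmega F (⇑(QO F)))) DFunLike.coe_injective
  obtain ⟨τ, hτ, hcube⟩ := exists_tau (MO F)
  have hτmem : τ ∉ Cfsg.gammaPOmega F (⇑(QO F)) := tau_not_mem τ hτ
  have hτ3 : τ * τ * τ = 1 := by
    apply MulEquiv.ext
    intro y
    exact hcube y
  have hτI := tau_moves_inndiag' hoddF τ hτ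
  have hker := ker_fieldPartG (QO F) hQ h7
  have hIΓ : inndiag8 F ≤ Cfsg.gammaPOmega F (⇑(QO F)) :=
    le_trans hIK (pgoAut_le_gamma (QO F))
  have hIk : (inndiag8 F).subgroupOf (Cfsg.gammaPOmega F (⇑(QO F))) ≤
      (fieldPartG (QO F) hQ h7).ker := by
    rw [hker]
    intro x hx
    rw [Subgroup.mem_subgroupOf] at hx ⊢
    exact hIK hx
  have hrelIK : ((inndiag8 F).subgroupOf
      (Cfsg.gammaPOmega F (⇑(QO F)))).relIndex (fieldPartG (QO F) hQ h7).ker = 2 := by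
    rw [hker, ← hrelIK0]
    exact Subgroup.relIndex_subgroupOf (pgoAut_le_gamma (QO F))
  obtain ⟨e⟩ := @out_equiv_S4_prod _ _ _ hfinA _ (Cfsg.Inn (Cfsg.POmega F (⇑(QO F)))) _
    (Cfsg.gammaPOmega F (⇑(QO F))) hidx
    (fieldPartG (QO F) hQ h7) (fieldSectionG (QO F) hσ)
    (fieldPartG_fieldSectionG (QO F) hQ h7 hσ)
    (inndiag8 F) hInorm hNI hIΓ hIk hrelNI hexp hrelIK τ hτ3 hτmem
    ⟨gammaK F, pgoAut_le_gamma (QO F) gammaK_mem⟩
    (by rw [hker, Subgroup.mem_subgroupOf]; exact gammaK_mem) hγI hγ2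
    (gammaK_conj_tau τ hτ)
    (fun σ => frob_comm_tau σ τ hτ) (fun σ => hγs σ) hτI
  obtain ⟨e₁⟩ := ringAut_equiv_zmod (F := F) hf hF
  exact ⟨e.trans ((MulEquiv.refl _).prodCongr e₁)⟩

end Cfsg.Agent.Lib.Helper36.Tri
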