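import Mathlib
import Cfsg.Agent.Lib.Helper36.Tri.OutFacts2
import Cfsg.Agent.Lib.Helper36.AutO.OutMinusOdd2
import Cfsg.Agent.Lib.Helper36.PgoInn
import Cfsg.Agent.S2695
import Cfsg.Agent.S2723
import Cfsg.Agent.S2724

set_option autoImplicit false
set_option linter.unusedSimpArgs false
set_option linter.unusedVariables false
set_option linter.unusedSectionVars false

/-!
# `Out PΩ⁺_{2m}(q)` for odd `q` and `m ≥ 5`
-/

namespace Cfsg.Agent.Lib.Helper36.Tri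

open Cfsg.Agent.Lib.Helper13 hiding isoGroup mem_isoGroup
open Cfsg.Agent.Lib.Helper36 Cfsg.Agent.Lib.Helper44 Cfsg.Agent.Lib.Helper36.AutO Module Matrix

set_option maxHeartbeats 1600000 in
theorem out_plus_odd_ge5 {F : Type*} [Field F] [Fintype F] {p f m : ℕ} [Fact p.Prime]
    (hf : 1 ≤ f) (hF : Fintype.card F = p ^ f) (hp : p ≠ 2) (hm : 5 ≤ m) :
    if p ^ f % 4 = 3 ∧ Odd m then
      Nonempty (Cfsg.Out (Cfsg.POmega F (Cfsg.quadFormPlus m F)) ≃*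
        Multiplicative (ZMod 2 × ZMod 2 × ZMod f))
    else
      Nonempty (Cfsg.Out (Cfsg.POmega F (Cfsg.quadFormPlus m F)) ≃*
        DihedralGroup 4 × Multiplicative (ZMod f)) := by
  classical
  have hchar : CharP F p := charP_of_card_pow hf hF
  have hpodd : Odd p := (Fact.out : p.Prime).odd_of_ne_two hp
  have hoddF : Odd (Fintype.card F) := by rw [hF]; exact hpodd.pow
  have h2 : (2 : F) ≠ 0 := two_ne_zero_of_char p hp
  have hcard : Fintype.card (Fin m ⊕ Fin m) = 2 * m := by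
    rw [Fintype.card_sum, Fintype.card_fin]; ring
  have h7 : 7 ≤ Fintype.card (Fin m ⊕ Fin m) := by rw [hcard]; omega
  have hQ : (QuadraticMap.polarBilin (hypQF m F)).Nondegenerate := hypQF_nondeg
  have htop := Cfsg.Agent.S2695.result (F := F) hm
  have h23 := Cfsg.Agent.S2723.result hoddF (m := m) (by omega)
  have h24 := Cfsg.Agent.S2724.result hoddF (m := m) (by omega)
  have hrefl : ∃ γ : MulAut (Cfsg.POmega F (⇑(hypQF m F))),
      γ ∈ Cfsg.pgoAut F (⇑(hypQF m F)) ∧ γ ∉ Cfsg.psoAut F (⇑(hypQF m F)) ∧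
      γ * γ = 1 ∧
      ∀ σ : F ≃+* F, pairAut (⇑(hypQF m F)) 1 σ (hypQF_pair_one m σ) * γ =
        γ * pairAut (⇑(hypQF m F)) 1 σ (hypQF_pair_one m σ) :=
    exists_graph_refl h2 m (by omega)
  change Cfsg.gammaPOmega F (⇑(hypQF m F)) = ⊤ at htop
  change (_ → (Cfsg.Inn (Cfsg.POmega F (⇑(hypQF m F)))).relIndex
    (Cfsg.psoAut F (⇑(hypQF m F))) = 1) ∧ (_ → (Cfsg.Inn (Cfsg.POmega F (⇑(hypQF m F)))).relIndex
    (Cfsg.psoAut F (⇑(hypQF m F))) = 2) at h23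
  change (_ → ∃ φ : ↥(Cfsg.pgoAut F (⇑(hypQF m F))) →* Multiplicative (ZMod 2 × ZMod 2),
      Function.Surjective φ ∧ φ.ker = (Cfsg.Inn (Cfsg.POmega F (⇑(hypQF m F)))).subgroupOf
        (Cfsg.pgoAut F (⇑(hypQF m F)))) ∧
    (_ → ∃ φ : ↥(Cfsg.pgoAut F (⇑(hypQF m F))) →* DihedralGroup 4,
      Function.Surjective φ ∧ φ.ker = (Cfsg.Inn (Cfsg.POmega F (⇑(hypQF m F)))).subgroupOf
        (Cfsg.pgoAut F (⇑(hypQF m F)))) at h24
  change if p ^ f % 4 = 3 ∧ Odd m then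
      Nonempty (Cfsg.Out (Cfsg.POmega F (⇑(hypQF m F))) ≃*
        Multiplicative (ZMod 2 × ZMod 2 × ZMod f))
    else
      Nonempty (Cfsg.Out (Cfsg.POmega F (⇑(hypQF m F))) ≃*
        DihedralGroup 4 × Multiplicative (ZMod f))
  set Q := hypQF m F with hQdef
  obtain ⟨γ, hγK, hγP, hγ2, hγs⟩ := hrefl
  have hσ : ∀ σ : F ≃+* F, Cfsg.IsSemisimilarityPair (⇑Q) (1 : GL (Fin m ⊕ Fin m) F) σ :=
    fun σ => hypQF_pair_one m σ
  have hker := ker_fieldPart Q hQ h7 htop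
  have hN : Cfsg.Inn (Cfsg.POmega F (⇑Q)) ≤ Cfsg.pgoAut F (⇑Q) :=
    le_trans (Inn_le_psoAut (⇑Q)) (psoAut_le_pgoAut (⇑Q))
  have hfin : Finite (MulAut (Cfsg.POmega F (⇑Q))) :=
    Finite.of_injective
      (fun e : MulAut (Cfsg.POmega F (⇑Q)) => (e : Cfsg.POmega F (⇑Q) → Cfsg.POmega F (⇑Q)))
      DFunLike.coe_injective
  obtain ⟨eC⟩ := ringAut_equiv_zmod (F := F) hf hF
  split_ifs with hc
  · have hc' : Odd m ∧ Fintype.card F % 4 = 3 := ⟨hc.2, by rw [hF]; exact hc.1⟩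
    obtain ⟨φ, hφs, hφk⟩ := h24.1 hc'
    have heq := Inn_eq_psoAut_of_relIndex _ (h23.1 hc')
    obtain ⟨e⟩ := out_equiv_of_section_central (Cfsg.Inn (Cfsg.POmega F (⇑Q)))
      (fieldPart Q hQ h7 htop) (fieldSection Q hσ) (fieldPart_fieldSection Q hQ h7 htop hσ)
      (Cfsg.pgoAut F (⇑Q)) hker hN φ hφs hφk (by
        intro c k hk
        rw [heq]
        exact comm_mem_psoAut Q hQ h2 h7 m hcard htop _ k hk)
    exact ⟨e.trans (((MulEquiv.refl _).prodCongr eC).trans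
      ((MulEquiv.prodMultiplicative (ZMod 2 × ZMod 2) (ZMod f)).symm.trans
        (AddEquiv.toMultiplicative AddEquiv.prodAssoc)))⟩
  · have hc' : ¬ (Odd m ∧ Fintype.card F % 4 = 3) := by
      rw [hF]
      exact fun h => hc ⟨h.2, h.1⟩
    obtain ⟨φ, hφs, hφk⟩ := h24.2 hc'
    exact out_equiv_dihedral_of_section (Cfsg.Inn (Cfsg.POmega F (⇑Q)))
      (fieldPart Q hQ h7 htop) (fieldSection Q hσ) (fieldPart_fieldSection Q hQ h7 htop hσ)
      (Cfsg.pgoAut F (⇑Q)) hker hN φ hφs hφk (Cfsg.psoAut F (⇑Q)) (Inn_le_psoAut (⇑Q))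
      (psoAut_le_pgoAut (⇑Q)) (h23.2 hc')
      (fun a k hk => comm_mem_psoAut Q hQ h2 h7 m hcard htop a k hk)
      γ hγK hγP hγ2 (fun c => hγs c) f eC

end Cfsg.Agent.Lib.Helper36.Tri
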