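import Mathlib

/-!
# Subgroups of `S₄` isomorphic to `S₃` are point stabilisers, hence conjugate
(module [S4] of S5515)
-/

set_option autoImplicit false

namespace Cfsg.Agent.Lib.Helper36.Tri

open Equiv

/-- a three-cycle of `S₃` -/
def cyc3 : Perm (Fin 3) := finRotate 3

theorem cyc3_facts : cyc3 ≠ 1 ∧ cyc3 ^ 3 = 1 ∧
    ∀ h : Perm (Fin 3), h * cyc3 * h⁻¹ = cyc3 ∨ h * cyc3 * h⁻¹ = cyc3⁻¹ := by
  unfold cyc3
  decide

theorem perm4_fixed_unique : ∀ c : Perm (Fin 4), c ^ 3 = 1 → c ≠ 1 →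
    ∃ i, c i = i ∧ ∀ j, c j = j → j = i := by
  decide

theorem card_stabilizer_perm4 (i : Fin 4) :
    Nat.card ↥(MulAction.stabilizer (Perm (Fin 4)) i) = 6 := by
  have h := Subgroup.card_mul_index (MulAction.stabilizer (Perm (Fin 4)) i)
  have horb : MulAction.orbit (Perm (Fin 4)) i = Set.univ := by
    ext j
    simp only [Set.mem_univ, iff_true]
    exact ⟨swap i j, by simp⟩
  rw [MulAction.index_stabilizer, horb, Set.ncard_univ, Nat.card_eq_fintype_card (α := Fin 4),
    Fintype.card_fin, Nat.card_eq_fintype_card (α := Perm (Fin 4)), Fintype.card_perm,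
    Fintype.card_fin] at h
  have h24 : Nat.factorial 4 = 24 := by decide
  omega

/-- a subgroup of `S₄` isomorphic to `S₃` is a point stabiliser -/
theorem eq_stabilizer_of_equiv_perm3 (T : Subgroup (Perm (Fin 4)))
    (hT : Nonempty (↥T ≃* Perm (Fin 3))) :
    ∃ i : Fin 4, T = MulAction.stabilizer (Perm (Fin 4)) i := by
  obtain ⟨φ⟩ := hT
  obtain ⟨hne, hcube, hconj⟩ := cyc3_facts
  set c : ↥T := φ.symm cyc3 with hc
  have hc1 : (c : Perm (Fin 4)) ≠ 1 := by
    intro h
    apply hne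
    have : c = 1 := Subtype.ext h
    rw [hc] at this
    have h2 := congrArg φ this
    rwa [φ.apply_symm_apply, map_one] at h2
  have hc3 : (c : Perm (Fin 4)) ^ 3 = 1 := by
    have : c ^ 3 = 1 := by
      rw [hc, ← map_pow, hcube, map_one]
    have h2 := congrArg (fun x : ↥T => (x : Perm (Fin 4))) this
    simpa using h2
  have hcc : ∀ h : ↥T, h * c * h⁻¹ = c ∨ h * c * h⁻¹ = c⁻¹ := by
    intro h
    rcases hconj (φ h) with h1 | h1
    · left
      apply φ.injective
      rw [map_mul, map_mul, map_inv, hc, φ.apply_symm_apply, h1]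
    · right
      apply φ.injective
      rw [map_mul, map_mul, map_inv, map_inv, hc, φ.apply_symm_apply, h1]
  obtain ⟨i, hi, huniq⟩ := perm4_fixed_unique (c : Perm (Fin 4)) hc3 hc1
  refine ⟨i, ?_⟩
  have hle : T ≤ MulAction.stabilizer (Perm (Fin 4)) i := by
    intro h hh
    rw [MulAction.mem_stabilizer_iff]
    show h i = i
    apply huniq
    rcases hcc ⟨h, hh⟩ with h1 | h1
    · have h2 := congrArg (fun x : ↥T => (x : Perm (Fin 4)) (h i)) h1
      simp only [Subgroup.coe_mul, Subgroup.coe_inv, Perm.mul_apply, Perm.coe_inv, Equiv.symm_apply_apply] at h2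
      rw [hi] at h2
      exact h2.symm
    · have h2 := congrArg (fun x : ↥T => (x : Perm (Fin 4)) (h i)) h1
      simp only [Subgroup.coe_mul, Subgroup.coe_inv, Perm.mul_apply, Perm.coe_inv, Equiv.symm_apply_apply] at h2
      rw [hi] at h2
      -- `h i = c⁻¹ (h i)`
      have h3 : (c : Perm (Fin 4)) ((c : Perm (Fin 4)).symm (h i)) = (c : Perm (Fin 4)) (h i) := by
        rw [← h2]
      rw [Equiv.apply_symm_apply] at h3
      exact h3.symm
  have hfin : Finite ↥(MulAction.stabilizer (Perm (Fin 4)) i) := inferInstance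
  apply Subgroup.eq_of_le_of_card_ge hle
  rw [card_stabilizer_perm4, Nat.card_congr φ.toEquiv, Nat.card_eq_fintype_card,
    Fintype.card_perm, Fintype.card_fin]
  decide

/-- MODULE [S4] -/
theorem perm4_conj_of_equiv_perm3 (T T' : Subgroup (Equiv.Perm (Fin 4)))
    (hT : Nonempty (↥T ≃* Equiv.Perm (Fin 3))) (hT' : Nonempty (↥T' ≃* Equiv.Perm (Fin 3))) :
    ∃ g : Equiv.Perm (Fin 4), T' = T.map (MulAut.conj g).toMonoidHom := by
  obtain ⟨i, rfl⟩ := eq_stabilizer_of_equiv_perm3 T hT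
  obtain ⟨j, rfl⟩ := eq_stabilizer_of_equiv_perm3 T' hT'
  refine ⟨swap i j, ?_⟩
  rw [← MulAction.stabilizer_smul_eq_stabilizer_map_conj]
  congr 1
  simp

end Cfsg.Agent.Lib.Helper36.Tri
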