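import Mathlib

/-!
# A group with a self-centralising normal subgroup `L ≅ K`, `Z(K) = 1`, embeds in `Aut K`
(module [U1] of S5515)
-/

set_option autoImplicit false

namespace Cfsg.Agent.Lib.Helper36.Tri

theorem exists_hom_aut_of_self_centralizing {G K : Type*} [Group G] [Group K] (L : Subgroup G)
    [L.Normal] (e : ↥L ≃* K) (hC : Subgroup.centralizer (L : Set G) ≤ L)
    (hZ : Subgroup.center K = ⊥) :
    ∃ ρ : G →* MulAut K, Function.Injective ρ ∧
      L.map ρ = (MulAut.conj : K →* MulAut K).range := by
  set ρ : G →* MulAut K := (MulAut.congr e).toMonoidHom.comp MulAut.conjNormal with hρ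
  have hρapp : ∀ (g : G) (l : ↥L), ρ g (e l) = e (MulAut.conjNormal g l) := by
    intro g l
    show e (MulAut.conjNormal g (e.symm (e l))) = _
    rw [e.symm_apply_apply]
  refine ⟨ρ, ?_, ?_⟩
  · rw [injective_iff_map_eq_one]
    intro g hg
    -- `g` centralises `L`
    have hcent : g ∈ Subgroup.centralizer (L : Set G) := by
      rw [Subgroup.mem_centralizer_iff]
      intro l hl
      have h1 := hρapp g ⟨l, hl⟩
      rw [hg, MulAut.one_apply] at h1
      have h2 := e.injective h1
      have h3 : (l : G) = g * l * g⁻¹ := by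
        have := congrArg (fun x : ↥L => (x : G)) h2
        simpa using this
      calc l * g = (g * l * g⁻¹) * g := by rw [← h3]
        _ = g * l := by group
    have hgL : g ∈ L := hC hcent
    -- `e ⟨g, _⟩` is central in `K`
    have hcen : e ⟨g, hgL⟩ ∈ Subgroup.center K := by
      rw [Subgroup.mem_center_iff]
      intro k
      obtain ⟨l, rfl⟩ := e.surjective k
      rw [← map_mul, ← map_mul]
      congr 1
      apply Subtype.ext
      rw [Subgroup.coe_mul, Subgroup.coe_mul]
      exact (Subgroup.mem_centralizer_iff.mp hcent l l.2)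
    rw [hZ, Subgroup.mem_bot] at hcen
    have h4 : (⟨g, hgL⟩ : ↥L) = 1 := by
      apply e.injective
      rw [hcen, map_one]
    exact congrArg (fun x : ↥L => (x : G)) h4
  · have hconj : ∀ l : ↥L, ρ (l : G) = MulAut.conj (e l) := by
      intro l
      apply MulEquiv.ext
      intro k
      obtain ⟨l', rfl⟩ := e.surjective k
      rw [hρapp, MulAut.conj_apply, ← map_inv, ← map_mul, ← map_mul]
      congr 1
    apply le_antisymm
    · rintro _ ⟨l, hl, rfl⟩
      exact ⟨e ⟨l, hl⟩, (hconj ⟨l, hl⟩).symm⟩
    · rintro _ ⟨k, rfl⟩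
      obtain ⟨l, rfl⟩ := e.surjective k
      exact ⟨(l : G), l.2, hconj l⟩

end Cfsg.Agent.Lib.Helper36.Tri
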