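import Mathlib
import Cfsg.Agent.Lib.Helper36.Tri.SymThreeU1
import Cfsg.Agent.Lib.Helper36.Tri.SymThreeS4
import Cfsg.Agent.Lib.Helper11.S5515U2

/-!
# Abstract group theory for S5515: re-export of helper11's module [U2]
-/

set_option autoImplicit false

namespace Cfsg.Agent.Lib.Helper36.Tri

-- [U2]
theorem equiv_of_conj_images {A S : Type*} [Group A] [Group S] (N : Subgroup A) [N.Normal]
    (ε : A ⧸ N ≃* S)
    (hS : ∀ T T' : Subgroup S, Nonempty (↥T ≃* Equiv.Perm (Fin 3)) →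
      Nonempty (↥T' ≃* Equiv.Perm (Fin 3)) → ∃ g : S, T' = T.map (MulAut.conj g).toMonoidHom)
    {G G' : Type*} [Group G] [Group G'] (L : Subgroup G) [L.Normal] (L' : Subgroup G') [L'.Normal]
    (ρ : G →* A) (hρ : Function.Injective ρ) (hL : L.map ρ = N)
    (ρ' : G' →* A) (hρ' : Function.Injective ρ') (hL' : L'.map ρ' = N)
    (hq : Nonempty (G ⧸ L ≃* Equiv.Perm (Fin 3))) (hq' : Nonempty (G' ⧸ L' ≃* Equiv.Perm (Fin 3))) :
    Nonempty (G ≃* G') :=
  Cfsg.Agent.Lib.Helper11.S5515U2.equiv_of_conj_images N ε hS L L' ρ hρ hL ρ' hρ' hL' hq hq'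

end Cfsg.Agent.Lib.Helper36.Tri
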